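import Cfsg.Agent.Lib.SympQuat.Small

/-!
Frames in four dimensions in which the stabiliser of two totally isotropic planes, or of a field of nine elements
closed under adjoints, normalises a group of order 32 over the field of three elements.
-/

set_option autoImplicit false

namespace Cfsg.Agent.Lib.SympQuat

open Cfsg Cfsg.Geo Matrix Cfsg.Agent.Lib.Aschbacher Cfsg.Agent.Lib.MaxClass

variable {F : Type*} [Field F]

section generic

variable {ι κ : Type} [Fintype ι] [DecidableEq ι] [Fintype κ] [DecidableEq κ]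

/-- A basis vector of a frame. -/
def fvec (e : ι ≃ κ) (B : GL ι F) (y : κ) : ι → F := (B : Matrix ι ι F) *ᵥ ((Pi.single y 1 : κ → F) ∘ e)

lemma fvec_eq_col (e : ι ≃ κ) (B : GL ι F) (y : κ) :
    fvec e B y = fun i => (B : Matrix ι ι F) i (e.symm y) := by
  rw [fvec, show (Pi.single y 1 : κ → F) ∘ e = Pi.single (e.symm y) 1 from funext fun i => by
    simp [Pi.single_apply, Equiv.eq_symm_apply], Matrix.mulVec_single_one]
  rfl

/-- Vectors with a non-singular Gram matrix give a frame. -/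
theorem exists_frame_of_vectors (e : ι ≃ κ) {G : GL ι F} {Γ : Matrix κ κ F} (hΓ : IsUnit Γ) (v : κ → ι → F)
    (hv : ∀ x y, formM (RingEquiv.refl F) (G : Matrix ι ι F) (v x) (v y) = Γ x y) :
    ∃ B : GL ι F, gramIn (RingEquiv.refl F) G e B = Γ ∧ ∀ y, fvec e B y = v y := by
  obtain ⟨M, hM⟩ : ∃ M : Matrix ι ι F, M = Matrix.of fun i b => v (e b) i := ⟨_, rfl⟩
  have hcol : ∀ b, M *ᵥ (Pi.single b 1) = v (e b) := fun b => by
    rw [Matrix.mulVec_single_one, hM]; rfl
  have hgram : Mᵀ * (G : Matrix ι ι F) * M = Γ.submatrix e e := by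
    ext a b
    have h := formM_mulVec (RingEquiv.refl F) (G : Matrix ι ι F) M M (Pi.single a 1) (Pi.single b 1)
    rw [hcol, hcol, hv, formM_single, twist_refl] at h
    exact h.symm
  have hu : IsUnit M := by
    have h : IsUnit (Mᵀ * (G : Matrix ι ι F) * M).det := by
      rw [hgram, ← Matrix.isUnit_iff_isUnit_det]
      exact hΓ.map (Matrix.reindexAlgEquiv F F e.symm)
    rw [Matrix.det_mul] at h
    exact (Matrix.isUnit_iff_isUnit_det M).mpr (isUnit_of_mul_isUnit_right h)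
  refine ⟨hu.unit, ?_, fun y => ?_⟩
  · rw [gramIn, IsUnit.unit_spec, twist_refl, hgram]
    ext x y
    simp
  · rw [fvec_eq_col, IsUnit.unit_spec, hM]
    funext i
    simp

lemma mulVec_fvec {e : ι ≃ κ} {B g : GL ι F} {M : Matrix κ κ F} (hM : (g : Matrix ι ι F) = framed e B M) (y : κ) :
    (g : Matrix ι ι F) *ᵥ fvec e B y = (B : Matrix ι ι F) *ᵥ ((fun x => M x y) ∘ e) := by
  rw [hM, fvec, framed_mulVec_comp, Matrix.mulVec_single_one]
  rfl

lemma form_fvec_image {G : GL ι F} {e : ι ≃ κ} {B g : GL ι F} {M : Matrix κ κ F}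
    (hM : (g : Matrix ι ι F) = framed e B M) (z y : κ) :
    formM (RingEquiv.refl F) (G : Matrix ι ι F) (fvec e B z) ((g : Matrix ι ι F) *ᵥ fvec e B y) =
      (gramIn (RingEquiv.refl F) G e B * M) z y := by
  rw [mulVec_fvec hM, fvec, formM_frame]
  simp [formM, Matrix.mul_apply, Matrix.mulVec, dotProduct, Pi.single_apply]

/-- A map is determined by the images of the vectors of a frame. -/
lemma eq_framed_of_fvec {e : ι ≃ κ} {B g : GL ι F} {M : Matrix κ κ F}
    (h : ∀ y, (g : Matrix ι ι F) *ᵥ fvec e B y = (B : Matrix ι ι F) *ᵥ ((fun x => M x y) ∘ e)) :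
    (g : Matrix ι ι F) = framed e B M := by
  have h' : (g : Matrix ι ι F) * (B : Matrix ι ι F) = framed e B M * (B : Matrix ι ι F) := by
    refine Matrix.ext_of_mulVec_single fun b => ?_
    obtain ⟨y, rfl⟩ := e.symm.surjective b
    have hs : (Pi.single (e.symm y) 1 : ι → F) = (Pi.single y 1 : κ → F) ∘ e := funext fun i => by
      simp [Pi.single_apply, Equiv.eq_symm_apply]
    rw [← Matrix.mulVec_mulVec, ← Matrix.mulVec_mulVec, hs, framed_mulVec_comp, Matrix.mulVec_single_one]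
    exact h y
  exact B.isUnit.mul_right_cancel h'

end generic

lemma sum_two_two (f : (Fin 2 → Fin 2) → F) :
    ∑ x, f x = f ![0, 0] + f ![0, 1] + f ![1, 0] + f ![1, 1] := by
  have hu : (Finset.univ : Finset (Fin 2 → Fin 2)) = {![0, 0], ![0, 1], ![1, 0], ![1, 1]} := by decide
  have h1 : ![0, 0] ∉ ({![0, 1], ![1, 0], ![1, 1]} : Finset (Fin 2 → Fin 2)) := by decide
  have h2 : ![0, 1] ∉ ({![1, 0], ![1, 1]} : Finset (Fin 2 → Fin 2)) := by decide
  have h3 : ![1, 0] ∉ ({![1, 1]} : Finset (Fin 2 → Fin 2)) := by decide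
  rw [hu, Finset.sum_insert h1, Finset.sum_insert h2, Finset.sum_insert h3, Finset.sum_singleton]
  ring

lemma cases_two_two (x : Fin 2 → Fin 2) : x = ![0, 0] ∨ x = ![0, 1] ∨ x = ![1, 0] ∨ x = ![1, 1] := by
  revert x; decide

lemma pure_two_apply (a b : Matrix (Fin 2) (Fin 2) F) (x y : Fin 2 → Fin 2) :
    pureTensor ![a, b] x y = a (x 0) (y 0) * b (x 1) (y 1) := by
  simp [pureTensor, Fin.prod_univ_two]

lemma framed_pure_apply (a b : Matrix (Fin 2) (Fin 2) F) :
    ∀ x y : Fin 2 → Fin 2, monoM (Equiv.refl (Fin 2)) ![a, b] x y = a (x 0) (y 0) * b (x 1) (y 1) :=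
  pure_two_apply a b

lemma det_mul_skew (A : Matrix (Fin 2) (Fin 2) F) : Aᵀ * qJ * A = A.det • qJ := by
  ext i j
  fin_cases i <;> fin_cases j <;> simp [qJ, Matrix.mul_apply, Fin.sum_univ_two, Matrix.det_fin_two] <;> ring

lemma isUnit_qJ : IsUnit (qJ : Matrix (Fin 2) (Fin 2) F) := by
  rw [Matrix.isUnit_iff_isUnit_det, Matrix.det_fin_two]
  simp [qJ]

lemma isUnit_qS : IsUnit (qS : Matrix (Fin 2) (Fin 2) F) := by
  rw [Matrix.isUnit_iff_isUnit_det, Matrix.det_fin_two]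
  simp [qS]

lemma qJ_transpose : (qJ : Matrix (Fin 2) (Fin 2) F)ᵀ = -qJ := by
  ext i j
  fin_cases i <;> fin_cases j <;> simp [qJ]

lemma isUnit_pure_two {a b : Matrix (Fin 2) (Fin 2) F} (ha : IsUnit a) (hb : IsUnit b) :
    IsUnit (pureTensor ![a, b]) := by
  refine IsUnit.of_mul_eq_one (pureTensor ![((ha.unit⁻¹ : GL (Fin 2) F) : Matrix (Fin 2) (Fin 2) F),
    ((hb.unit⁻¹ : GL (Fin 2) F) : Matrix (Fin 2) (Fin 2) F)]) ?_
  rw [pureTensor_mul, ← pureTensor_one]
  congr 1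
  funext i
  fin_cases i
  · exact ha.mul_val_inv
  · exact hb.mul_val_inv

variable [Fintype F] {H : Subgroup (GL (Fin 2 ⊕ Fin 2) F)}

/-- The group of order 32 in a frame with Gram matrix `J ⊗ S`, and the conclusion for a maximal subgroup. -/
theorem four_case (hq : Fintype.card F = 3) (hH : IsMaximalIn (spGL 2 F) H) (e : (Fin 2 ⊕ Fin 2) ≃ (Fin 2 → Fin 2))
    (B : GL (Fin 2 ⊕ Fin 2) F) {S : Matrix (Fin 2) (Fin 2) F}
    (hG : gramIn (RingEquiv.refl F) (sympGram 2 F) e B = pureTensor ![qJ, S])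
    (hS : ∀ a, ∃ η : F, (η = 1 ∨ η = -1) ∧ (d8 a)ᵀ * S * d8 a = η • S)
    (hg : ∀ g ∈ H, ∃ A D : Matrix (Fin 2) (Fin 2) F, A.det ≠ 0 ∧
      (∀ a, ∃ (η : F) (b : Fin 4), (η = 1 ∨ η = -1) ∧ D * d8 a = η • (d8 b * D)) ∧
      (g : Matrix (Fin 2 ⊕ Fin 2) (Fin 2 ⊕ Fin 2) F) = framed e B (pureTensor ![A, D])) :
    ∃ (p : ℕ) (R : Subgroup (GL (Fin 2 ⊕ Fin 2) F)), p.Prime ∧ Fintype.card F = p ∧ IsSymplecticTypeGroup 2 R ∧
      ActsAbsolutelyIrreducibly (matrixSet R) ∧ R ≤ similarityGroup (sympForm 2 F) ∧ Nat.card R = 32 ∧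
      Nat.card (Subgroup.center R) = 2 ∧ IsOfMinusType 2 R ∧ H = subgroupNormalizer R ⊓ spGL 2 F := by
  have h3 := three_zero hq
  have h2 := two_ne hq
  let T : Fin 2 → Fin 4 → Matrix (Fin 2) (Fin 2) F := ![q8, d8]
  have hT : ∀ i, IsPauliTable (T i) := fun i => by
    fin_cases i
    · exact isPauliTable_q8 h3 h2
    · exact isPauliTable_d8 h2
  have hneg : ∃ x ∈ pauliGroup e B T hT,
      (x : Matrix (Fin 2 ⊕ Fin 2) (Fin 2 ⊕ Fin 2) F) * (x : Matrix (Fin 2 ⊕ Fin 2) (Fin 2 ⊕ Fin 2) F) = -1 := by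
    obtain ⟨x, hx, hxv⟩ := exists_mem (e := e) (B := B) hT ![1, 0]
    refine ⟨x, hx, ?_⟩
    rw [hxv, pauli, ← map_mul, pureTensor_mul]
    have hp : ((fun i => T i (![1, 0] i)) * fun i => T i (![1, 0] i)) =
        fun i => (![-1, 1] i : F) • (1 : Matrix (Fin 2) (Fin 2) F) := by
      funext i
      fin_cases i
      · ext a b
        fin_cases a <;> fin_cases b <;> simp [T, q8, genTable, qJ, Matrix.mul_apply, Fin.sum_univ_two]
      · simp [T, d8, genTable]
    rw [hp, pureTensor_smul_family, show (fun _ : Fin 2 => (1 : Matrix (Fin 2) (Fin 2) F)) = 1 from rfl,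
      pureTensor_one, map_smul, map_one, Fin.prod_univ_two]
    simp
  have hskew : (pureTensor fun i => ((![isUnit_qJ.unit, 1] i : GL (Fin 2) F) : Matrix (Fin 2) (Fin 2) F))ᵀ =
      -pureTensor fun i => ((![isUnit_qJ.unit, 1] i : GL (Fin 2) F) : Matrix (Fin 2) (Fin 2) F) := by
    ext x y
    simp only [Matrix.transpose_apply, Matrix.neg_apply, pureTensor, Matrix.of_apply, Fin.prod_univ_two]
    have hJ : ∀ a b : Fin 2, (qJ : Matrix (Fin 2) (Fin 2) F) a b = -qJ b a := fun a b => by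
      rw [← Matrix.transpose_apply (qJ : Matrix (Fin 2) (Fin 2) F) a b, qJ_transpose, Matrix.neg_apply, neg_neg]
    simp only [Matrix.cons_val_zero, Matrix.cons_val_one, IsUnit.unit_spec, Units.val_one]
    rw [hJ (y 0) (x 0)]
    simp [Matrix.one_apply, eq_comm]
    split_ifs <;> simp
  obtain ⟨p, R, hp, -, hcard, hR, hirr, hsim, hRc, hz, hminus, he⟩ :=
    normalizer_case hq le_rfl hH e B hT hneg (Gs := ![qJ, S]) (c := 1) (by rw [one_smul]; exact hG)
      (fun i a => by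
        fin_cases i
        · exact ⟨1, Or.inl rfl, by rw [one_smul]; exact q8_isometry h3 a⟩
        · exact hS a)
      hskew
      (fun i a => by
        fin_cases i
        · simpa [T] using q8_isometry h3 a
        · simpa [T] using d8_isometry (F := F) a)
      (fun g hgH => by
        obtain ⟨A, D, hA, hD, hgv⟩ := hg g hgH
        refine mem_normalizer_pauli hT h2 (π := Equiv.refl _) (gs := ![A, D]) (by rw [monoM_refl]; exact hgv)
          fun i a => ?_
        fin_cases i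
        · exact gl_normalises hq hA a
        · exact hD a)
  exact ⟨p, R, hp, hcard, hR, hirr, hsim, hRc, hz, hminus, he⟩

/-- Over three elements the stabiliser of two totally isotropic planes normalises such a group. -/
theorem planes_case (hq : Fintype.card F = 3) (hH : IsMaximalIn (spGL 2 F) H)
    {D : Fin 2 → Submodule F (Fin 2 ⊕ Fin 2 → F)} (hD : IsMDecomposition 2 D)
    (hts : ∀ i, IsTotallySingularFor (sympForm 2 F) (D i))
    (hle : H = decompositionStabilizer D ⊓ spGL 2 F) :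
    ∃ (p : ℕ) (R : Subgroup (GL (Fin 2 ⊕ Fin 2) F)), p.Prime ∧ Fintype.card F = p ∧ IsSymplecticTypeGroup 2 R ∧
      ActsAbsolutelyIrreducibly (matrixSet R) ∧ R ≤ similarityGroup (sympForm 2 F) ∧ Nat.card R = 32 ∧
      Nat.card (Subgroup.center R) = 2 ∧ IsOfMinusType 2 R ∧ H = subgroupNormalizer R ⊓ spGL 2 F := by
  classical
  let b := Module.finBasisOfFinrankEq F (D 0) (hD.finrank_eq 0)
  let c := Module.finBasisOfFinrankEq F (D 1) (hD.finrank_eq 1)
  let Pm : Matrix (Fin 2) (Fin 2) F :=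
    Matrix.of fun i j => sympForm 2 F (b i : Fin 2 ⊕ Fin 2 → F) (c j : Fin 2 ⊕ Fin 2 → F)
  have hsup : D 0 ⊔ D 1 = ⊤ := by
    rw [← hD.iSup_eq_top]
    refine le_antisymm (sup_le (le_iSup D 0) (le_iSup D 1)) (iSup_le fun i => ?_)
    fin_cases i
    · exact le_sup_left
    · exact le_sup_right
  have hPm : IsUnit Pm := by
    rw [Matrix.isUnit_iff_isUnit_det, isUnit_iff_ne_zero]
    intro h0
    obtain ⟨x, hx0, hx⟩ := Matrix.exists_mulVec_eq_zero_iff.mpr h0
    obtain ⟨w, hw⟩ : ∃ w : D 1, w = ∑ j, x j • c j := ⟨_, rfl⟩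
    have hbw : ∀ i, sympForm 2 F (b i : Fin 2 ⊕ Fin 2 → F) (w : Fin 2 ⊕ Fin 2 → F) = 0 := fun i => by
      rw [hw, Submodule.coe_sum]
      refine Eq.trans ?_ (congrFun hx i)
      simp only [Submodule.coe_smul, sympForm_sum_right, sympForm_smul_right, Matrix.mulVec, dotProduct, Pm,
        Matrix.of_apply]
      exact Finset.sum_congr rfl fun j _ => mul_comm _ _
    have hw0 : (w : Fin 2 ⊕ Fin 2 → F) = 0 := by
      by_contra hne
      obtain ⟨y, hy⟩ := sympForm_nondeg hne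
      apply hy
      obtain ⟨y₀, hy₀, y₁, hy₁, rfl⟩ := Submodule.mem_sup.mp (hsup.ge (Submodule.mem_top (x := y)))
      rw [sympForm_add_left, hts 1 y₁ hy₁ w w.2, add_zero,
        show y₀ = ((∑ i, b.repr ⟨y₀, hy₀⟩ i • b i : D 0) : Fin 2 ⊕ Fin 2 → F) by rw [b.sum_repr],
        Submodule.coe_sum, sympForm_sum_left]
      exact Finset.sum_eq_zero fun i _ => by rw [Submodule.coe_smul, sympForm_smul_left, hbw, mul_zero]
    exact hx0 (funext fun j => Fintype.linearIndependent_iff.mp c.linearIndependent x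
      (hw.symm.trans (Subtype.ext hw0)) j)
  obtain ⟨C, hC⟩ : ∃ C, C = ((hPm.unit⁻¹ : GL (Fin 2) F) : Matrix (Fin 2) (Fin 2) F) * qJ := ⟨_, rfl⟩
  have hPC : Pm * C = qJ := by rw [hC, ← mul_assoc, IsUnit.mul_val_inv, one_mul]
  let v : (Fin 2 → Fin 2) → (Fin 2 ⊕ Fin 2 → F) := fun x =>
    if x 1 = 0 then (b (x 0) : Fin 2 ⊕ Fin 2 → F) else ∑ k, C k (x 0) • (c k : Fin 2 ⊕ Fin 2 → F)
  have hmem : ∀ x, v x ∈ D (x 1) := fun x => by
    show (if x 1 = 0 then _ else _) ∈ _
    rcases (show x 1 = 0 ∨ x 1 = 1 by omega) with h | h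
    · rw [if_pos h, h]; exact (b (x 0)).2
    · rw [if_neg (by rw [h]; decide), h]
      exact Submodule.sum_mem _ fun k _ => Submodule.smul_mem _ _ (c k).2
  have hpair : ∀ i j, sympForm 2 F (b i : Fin 2 ⊕ Fin 2 → F) (∑ k, C k j • (c k : Fin 2 ⊕ Fin 2 → F)) =
      (qJ : Matrix (Fin 2) (Fin 2) F) i j := fun i j => by
    rw [← hPC, sympForm_sum_right, Matrix.mul_apply]
    exact Finset.sum_congr rfl fun k _ => by rw [sympForm_smul_right]; exact mul_comm _ _
  have hv : ∀ x y, formM (RingEquiv.refl F) (sympGram 2 F : Matrix _ _ F) (v x) (v y) =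
      pureTensor ![qJ, qS] x y := by
    intro x y
    rw [pure_two_apply, ← sympForm_eq]
    have hJ : ∀ a b : Fin 2, (qJ : Matrix (Fin 2) (Fin 2) F) a b = -qJ b a := fun a b => by
      rw [← Matrix.transpose_apply (qJ : Matrix (Fin 2) (Fin 2) F) a b, qJ_transpose, Matrix.neg_apply, neg_neg]
    rcases (show x 1 = 0 ∨ x 1 = 1 by omega) with hx | hx <;> rcases (show y 1 = 0 ∨ y 1 = 1 by omega) with hy | hy
    · rw [hts 0 _ (hx ▸ hmem x) _ (hy ▸ hmem y)]; simp [hx, hy, qS]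
    · simp only [v, hx, hy, if_pos, if_neg (show ¬ (1 : Fin 2) = 0 by decide), hpair]; simp [qS]
    · simp only [v, hx, hy, if_pos, if_neg (show ¬ (1 : Fin 2) = 0 by decide)]
      rw [sympForm_skew, hpair, hJ]; simp [qS]
    · rw [hts 1 _ (hx ▸ hmem x) _ (hy ▸ hmem y)]; simp [hx, hy, qS]
  obtain ⟨e⟩ : Nonempty ((Fin 2 ⊕ Fin 2) ≃ (Fin 2 → Fin 2)) := ⟨Fintype.equivOfCardEq (by simp)⟩
  obtain ⟨B, hG, hB⟩ := exists_frame_of_vectors e (isUnit_pure_two isUnit_qJ isUnit_qS) v hv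
  refine four_case hq hH e B hG d8_split fun g hgH => ?_
  rw [hle] at hgH
  obtain ⟨⟨σ, hσ⟩, hgsp⟩ := hgH
  obtain ⟨M, hM⟩ : ∃ M, M = (inFrame e B g : Matrix (Fin 2 → Fin 2) (Fin 2 → Fin 2) F) := ⟨_, rfl⟩
  have hMg : (g : Matrix (Fin 2 ⊕ Fin 2) (Fin 2 ⊕ Fin 2) F) = framed e B M := by
    rw [hM, framed_inFrame]
  -- support
  have hsupp : ∀ z y : Fin 2 → Fin 2, z 1 = σ (y 1) → ((pureTensor ![qJ, qS] : Matrix (Fin 2 → Fin 2) (Fin 2 → Fin 2) F) * M) z y = 0 := fun z y hz => by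
    rw [← hG, ← form_fvec_image hMg, ← sympForm_eq, hB, hB]
    exact hts (σ (y 1)) _ (hz ▸ hmem z) _ (by
      rw [← hσ]
      exact ⟨v y, hmem y, Matrix.toLin'_apply _ _⟩)
  have hzero : ∀ i s j s', s ≠ σ s' → M ![i, s] ![j, s'] = 0 := by
    intro i s j s' hs
    have hs1 : σ s' = 1 - s := by omega
    rcases (show i = 0 ∨ i = 1 by omega) with rfl | rfl
    · have h := hsupp ![1, 1 - s] ![j, s'] (by simp [hs1])
      fin_cases s <;> simpa [Matrix.mul_apply, sum_two_two, pure_two_apply, qJ, qS] using h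
    · have h := hsupp ![0, 1 - s] ![j, s'] (by simp [hs1])
      fin_cases s <;> simpa [Matrix.mul_apply, sum_two_two, pure_two_apply, qJ, qS] using h
  have hinv : Mᵀ * pureTensor ![qJ, qS] * M = pureTensor ![qJ, qS] := by
    have h := gramIn_invariant (σ := RingEquiv.refl F) (G := sympGram 2 F) e B (g := g) ?_ hMg
    · rw [twist_refl, hG] at h; exact h
    · refine formM_injective (RingEquiv.refl F) fun u w => ?_
      rw [← formM_mulVec, ← sympForm_eq]
      exact hgsp u w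
  obtain ⟨A, hA⟩ : ∃ A : Matrix (Fin 2) (Fin 2) F, A = Matrix.of fun i j => M ![i, σ 0] ![j, 0] := ⟨_, rfl⟩
  obtain ⟨A', hA'⟩ : ∃ A' : Matrix (Fin 2) (Fin 2) F, A' = Matrix.of fun i j => M ![i, σ 1] ![j, 1] := ⟨_, rfl⟩
  have hAA : Aᵀ * qJ * A' = qJ := by
    ext i j
    have h := congrFun (congrFun hinv ![i, 0]) ![j, 1]
    rcases (show (σ 0 = 0 ∧ σ 1 = 1) ∨ (σ 0 = 1 ∧ σ 1 = 0) by
      have h01 : σ 0 ≠ σ 1 := fun h => absurd (σ.injective h) (by decide)
      omega) with ⟨h0, h1⟩ | ⟨h0, h1⟩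
    · have z1 : ∀ k l, M ![k, 1] ![l, 0] = 0 := fun k l => hzero k 1 l 0 (by rw [h0]; decide)
      have z2 : ∀ k l, M ![k, 0] ![l, 1] = 0 := fun k l => hzero k 0 l 1 (by rw [h1]; decide)
      fin_cases i <;> fin_cases j <;>
        simpa [Matrix.mul_apply, sum_two_two, pure_two_apply, qJ, qS, Fin.sum_univ_two, hA, hA', h0, h1, z1, z2,
          add_comm] using h
    · have z1 : ∀ k l, M ![k, 0] ![l, 0] = 0 := fun k l => hzero k 0 l 0 (by rw [h0]; decide)
      have z2 : ∀ k l, M ![k, 1] ![l, 1] = 0 := fun k l => hzero k 1 l 1 (by rw [h1]; decide)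
      fin_cases i <;> fin_cases j <;>
        simpa [Matrix.mul_apply, sum_two_two, pure_two_apply, qJ, qS, Fin.sum_univ_two, hA, hA', h0, h1, z1, z2,
          add_comm] using h
  have hdet : A.det ≠ 0 := fun h0 => by
    have h := congrArg Matrix.det hAA
    rw [Matrix.det_mul, Matrix.det_mul, Matrix.det_transpose, h0] at h
    simp [qJ] at h
  have hA'eq : A' = A.det⁻¹ • A := by
    have h : Aᵀ * qJ * A' = Aᵀ * qJ * (A.det⁻¹ • A) := by
      rw [hAA, Matrix.mul_smul, det_mul_skew, smul_smul, inv_mul_cancel₀ hdet, one_smul]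
    refine IsUnit.mul_left_cancel ?_ h
    rw [Matrix.isUnit_iff_isUnit_det, Matrix.det_mul, Matrix.det_transpose, isUnit_iff_ne_zero]
    simp [qJ, hdet]
  obtain ⟨P, hP⟩ : ∃ P : Matrix (Fin 2) (Fin 2) F,
      P = Matrix.of fun s s' => if s = σ s' then (if s' = 0 then 1 else A.det⁻¹) else 0 := ⟨_, rfl⟩
  refine ⟨A, P, hdet, monomial_normalises hq ?_, ?_⟩
  · rcases (show (σ 0 = 0 ∧ σ 1 = 1) ∨ (σ 0 = 1 ∧ σ 1 = 0) by
      have h01 : σ 0 ≠ σ 1 := fun h => absurd (σ.injective h) (by decide)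
      omega) with ⟨h0, h1⟩ | ⟨h0, h1⟩
    · exact Or.inl (by simp [hP, h0, h1, hdet])
    · exact Or.inr (by simp [hP, h0, h1, hdet])
  · rw [hMg]
    congr 1
    ext x y
    rw [pure_two_apply]
    have hx : x = ![x 0, x 1] := by funext i; fin_cases i <;> rfl
    have hy : y = ![y 0, y 1] := by funext i; fin_cases i <;> rfl
    by_cases hs : x 1 = σ (y 1)
    · have hP' : P (x 1) (y 1) = if y 1 = 0 then 1 else A.det⁻¹ := by simp [hP, hs]
      rw [hP']
      rcases (show y 1 = 0 ∨ y 1 = 1 by omega) with hy1 | hy1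
      · rw [if_pos hy1, mul_one, hA, Matrix.of_apply]
        conv_lhs => rw [hx, hy, hs, hy1]
      · rw [if_neg (by rw [hy1]; decide), mul_comm, ← smul_eq_mul, ← Matrix.smul_apply, ← hA'eq, hA',
          Matrix.of_apply]
        conv_lhs => rw [hx, hy, hs, hy1]
    · rw [hP, Matrix.of_apply, if_neg hs, mul_zero, hx, hy]
      exact hzero _ _ _ _ hs

/-- Over three elements the normaliser of a field of nine elements closed under adjoints normalises such a group. -/
theorem field_case (hq : Fintype.card F = 3) (hH : IsMaximalIn (spGL 2 F) H)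
    {K : Subalgebra F (Matrix (Fin 2 ⊕ Fin 2) (Fin 2 ⊕ Fin 2) F)} (hK : IsFieldSubalgebra 2 K)
    (hac : IsAdjointClosedFor (sympForm 2 F) K) (hsa : ¬ IsSelfAdjointFor (sympForm 2 F) K)
    (hle : H = subalgebraNormalizer K ⊓ spGL 2 F) :
    ∃ (p : ℕ) (R : Subgroup (GL (Fin 2 ⊕ Fin 2) F)), p.Prime ∧ Fintype.card F = p ∧ IsSymplecticTypeGroup 2 R ∧
      ActsAbsolutelyIrreducibly (matrixSet R) ∧ R ≤ similarityGroup (sympForm 2 F) ∧ Nat.card R = 32 ∧
      Nat.card (Subgroup.center R) = 2 ∧ IsOfMinusType 2 R ∧ H = subgroupNormalizer R ⊓ spGL 2 F := by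
  classical
  set f := sympForm 2 F with hf
  have h3 := three_zero hq
  have h2 := two_ne hq
  -- a square root of minus one
  obtain ⟨j, hjK, hjj⟩ : ∃ j ∈ K, j * j = (-1 : Matrix (Fin 2 ⊕ Fin 2) (Fin 2 ⊕ Fin 2) F) := by
    letI : CommRing K := { (inferInstance : Ring K) with
      mul_comm := fun a b => Subtype.ext (hK.comm a a.2 b b.2) }
    have hfield : IsField K := by
      refine ⟨⟨0, 1, fun h => ?_⟩, mul_comm, fun {a} ha => ?_⟩
      · have h' : (0 : Matrix (Fin 2 ⊕ Fin 2) (Fin 2 ⊕ Fin 2) F) = 1 := congrArg Subtype.val h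
        exact one_ne_zero h'.symm
      · obtain ⟨y, hy, hay⟩ := hK.inv a a.2 fun h => ha (Subtype.ext h)
        exact ⟨⟨y, hy⟩, Subtype.ext hay⟩
    letI : Field K := hfield.toField
    haveI : Fintype K := Fintype.ofFinite _
    have hcard : Fintype.card K = 9 := by
      rw [Module.card_eq_pow_finrank (K := F) (V := K), hq, hK.finrank_eq]; norm_num
    obtain ⟨x, hx⟩ := FiniteField.isSquare_neg_one_iff.mpr (show Fintype.card K % 4 ≠ 3 by rw [hcard]; norm_num)
    exact ⟨x, x.2, (congrArg Subtype.val hx).symm⟩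
  have hroots : ∀ x ∈ K, x * x = (-1 : Matrix (Fin 2 ⊕ Fin 2) (Fin 2 ⊕ Fin 2) F) → x = j ∨ x = -j := by
    intro x hx hxx
    by_contra hne
    push Not at hne
    obtain ⟨y, -, hy⟩ := hK.inv (x - j) (K.sub_mem hx hjK) (sub_ne_zero.mpr hne.1)
    have h0 : (x + j) * (x - j) = 0 := by
      rw [add_mul, mul_sub, mul_sub, hxx, hjj, hK.comm j hjK x hx]; abel
    have := congrArg (· * y) h0
    simp only [mul_assoc, hy, mul_one, zero_mul] at this
    exact hne.2 (eq_neg_of_add_eq_zero_left this)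
  have hadd_l : ∀ x y z, f (x + y) z = f x z + f y z := sympForm_add_left
  have hadd_r : ∀ z x y, f z (x + y) = f z x + f z y := sympForm_add_right
  have hsm_l : ∀ (a : F) x z, f (a • x) z = a * f x z := sympForm_smul_left
  have hsm_r : ∀ (a : F) z x, f z (a • x) = a * f z x := sympForm_smul_right
  have hneg_l : ∀ x z, f (-x) z = -f x z := fun x z => by rw [← neg_one_smul F x, hsm_l]; ring
  have hneg_r : ∀ z x, f z (-x) = -f z x := fun z x => by rw [← neg_one_smul F x, hsm_r]; ring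
  have hanti : ∀ u w, f (j *ᵥ u) w = -f u (j *ᵥ w) := by
    obtain ⟨j', hj'K, hj'⟩ := hac j hjK
    have hj'2 : j' * j' = (-1 : Matrix (Fin 2 ⊕ Fin 2) (Fin 2 ⊕ Fin 2) F) := by
      refine Matrix.ext_iff_mulVec.mpr fun w => ?_
      rw [Matrix.neg_mulVec, Matrix.one_mulVec]
      by_contra hne
      obtain ⟨u, hu⟩ := sympForm_nondeg (sub_ne_zero.mpr hne)
      apply hu
      show f u ((j' * j') *ᵥ w - -w) = 0
      rw [sub_eq_add_neg, neg_neg, hadd_r, ← Matrix.mulVec_mulVec, ← hj', ← hj', Matrix.mulVec_mulVec, hjj,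
        Matrix.neg_mulVec, Matrix.one_mulVec, hneg_l, neg_add_cancel]
    rcases hroots j' hj'K hj'2 with h | h
    · exfalso
      rw [h] at hj'
      apply hsa
      intro k hk u w
      have hli : LinearIndependent F ![(1 : Matrix (Fin 2 ⊕ Fin 2) (Fin 2 ⊕ Fin 2) F), j] := by
        rw [LinearIndependent.pair_iff' one_ne_zero]
        intro a ha
        rw [← ha, Matrix.smul_mul, Matrix.mul_smul, mul_one, smul_smul] at hjj
        have := congrFun (congrFun hjj (Sum.inl 0)) (Sum.inl 0)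
        simp at this
        rcases cases_three hq a with rfl | rfl | rfl
        · simp at this
        · exact h2 (by linear_combination this)
        · exact h2 (by linear_combination this)
      have hle' : Submodule.span F ({1, j} : Set (Matrix (Fin 2 ⊕ Fin 2) (Fin 2 ⊕ Fin 2) F)) ≤
          Subalgebra.toSubmodule K :=
        Submodule.span_le.mpr (Set.insert_subset K.one_mem (Set.singleton_subset_iff.mpr hjK))
      have hspan : k ∈ Submodule.span F ({1, j} : Set (Matrix (Fin 2 ⊕ Fin 2) (Fin 2 ⊕ Fin 2) F)) := by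
        rw [Submodule.eq_of_le_of_finrank_le hle' (by
          rw [show Module.finrank F (Subalgebra.toSubmodule K) = 2 from hK.finrank_eq]
          have := finrank_span_eq_card hli
          rw [Matrix.range_cons_cons_empty, Fintype.card_fin] at this
          omega)]
        exact hk
      obtain ⟨a, b, rfl⟩ := Submodule.mem_span_pair.mp hspan
      simp only [Matrix.add_mulVec, Matrix.smul_mulVec, Matrix.one_mulVec, hadd_l, hadd_r, hsm_l, hsm_r, hj']
    · intro u w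
      rw [hj', h, Matrix.neg_mulVec, hneg_r]
  -- the symmetric form `f u (j w)`
  have hjv : ∀ x, j *ᵥ (j *ᵥ x) = -x := fun x => by
    rw [Matrix.mulVec_mulVec, hjj, Matrix.neg_mulVec, Matrix.one_mulVec]
  have hself : ∀ x, f x x = 0 := sympForm_self
  have hskew : ∀ x y, f x y = -f y x := sympForm_skew
  have hb : ∀ x y, f x (j *ᵥ y) = f y (j *ᵥ x) := fun x y => by rw [hskew, hanti, neg_neg]
  have hjj2 : ∀ x y, f (j *ᵥ x) (j *ᵥ y) = f x y := fun x y => by rw [hanti, hjv, hneg_r, neg_neg]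
  obtain ⟨u, hu0, huu⟩ : ∃ u, u ≠ 0 ∧ f u (j *ᵥ u) = 0 := by
    obtain ⟨u₀, hu₀⟩ := exists_ne (0 : Fin 2 ⊕ Fin 2 → F)
    by_cases hc : f u₀ (j *ᵥ u₀) = 0
    · exact ⟨u₀, hu₀, hc⟩
    let Φ : (Fin 2 ⊕ Fin 2 → F) →ₗ[F] (F × F) :=
      { toFun := fun x => (f u₀ x, f u₀ (j *ᵥ x))
        map_add' := fun x y => by simp [hadd_r, Matrix.mulVec_add]
        map_smul' := fun a x => by simp [hsm_r, Matrix.mulVec_smul] }
    obtain ⟨y, hy, hy0⟩ := Submodule.exists_mem_ne_zero_of_ne_bot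
      (LinearMap.ker_ne_bot_of_finrank_lt (f := Φ) (by simp))
    rw [LinearMap.mem_ker] at hy
    have hy1 : f u₀ y = 0 := congrArg Prod.fst hy
    have hy2 : f u₀ (j *ᵥ y) = 0 := congrArg Prod.snd hy
    by_cases hd : f y (j *ᵥ y) = 0
    · exact ⟨y, hy0, hd⟩
    have e1 : f y (j *ᵥ u₀) = 0 := by rw [hb]; exact hy2
    have e2 : f y (j *ᵥ (j *ᵥ u₀)) = 0 := by rw [hjv, hneg_r, hskew, hy1, neg_zero, neg_zero]
    have e3 : f (j *ᵥ u₀) (j *ᵥ (j *ᵥ u₀)) = f u₀ (j *ᵥ u₀) := hjj2 _ _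
    have e4 : f u₀ (j *ᵥ (j *ᵥ u₀)) = 0 := by rw [hjv, hneg_r, hself, neg_zero]
    have e5 : f (j *ᵥ u₀) (j *ᵥ u₀) = 0 := hself _
    have hsum : f y (j *ᵥ y) = -f u₀ (j *ᵥ u₀) ∨ f y (j *ᵥ y) = f u₀ (j *ᵥ u₀) := by
      rcases (cases_three hq (f y (j *ᵥ y))).resolve_left hd with h | h <;>
        rcases (cases_three hq (f u₀ (j *ᵥ u₀))).resolve_left hc with h' | h' <;>
          rw [h, h'] <;> simp
    rcases hsum with h | h
    · refine ⟨y + u₀, fun h0 => hc ?_, ?_⟩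
      · have hh : f (y + u₀) (j *ᵥ u₀) = 0 := by rw [h0, ← zero_smul F (0 : Fin 2 ⊕ Fin 2 → F), hsm_l, zero_mul]
        rwa [hadd_l, e1, zero_add] at hh
      · simp only [Matrix.mulVec_add, hadd_l, hadd_r, e1, hy2, h]; ring
    · refine ⟨y + (u₀ + j *ᵥ u₀), fun h0 => hc ?_, ?_⟩
      · have hh : f (y + (u₀ + j *ᵥ u₀)) (j *ᵥ u₀) = 0 := by
          rw [h0, ← zero_smul F (0 : Fin 2 ⊕ Fin 2 → F), hsm_l, zero_mul]
        rwa [hadd_l, hadd_l, e1, e5, zero_add, add_zero] at hh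
      · have e6 : f (j *ᵥ u₀) (j *ᵥ y) = 0 := by rw [hjj2]; exact hy1
        simp only [Matrix.mulVec_add, hadd_l, hadd_r, e1, e2, e3, e4, e5, e6, hy2, h]
        linear_combination f u₀ (j *ᵥ u₀) * h3
  obtain ⟨w, hw1, hw2, hw3⟩ : ∃ w, f u w = -1 ∧ f u (j *ᵥ w) = 0 ∧ f w (j *ᵥ w) = 0 := by
    obtain ⟨w₁, hw₁⟩ := sympForm_nondeg' hu0
    set x := (f u w₁)⁻¹ • w₁ with hx
    have hux : f u x = 1 := by rw [hx, hsm_r, inv_mul_cancel₀ hw₁]
    clear_value x
    obtain ⟨r, hr⟩ : ∃ r, f u (j *ᵥ x) = r := ⟨_, rfl⟩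
    have hr1 : 1 + r * r ≠ 0 := by
      rcases cases_three hq r with rfl | rfl | rfl <;> intro h
      · simp at h
      · exact h2 (by linear_combination h)
      · exact h2 (by linear_combination h)
    obtain ⟨w₀, hw₀⟩ : ∃ w₀, w₀ = (-(1 + r * r)⁻¹) • (x + r • (j *ᵥ x)) := ⟨_, rfl⟩
    have h0a : f u w₀ = -1 := by
      rw [hw₀, hsm_r, hadd_r, hsm_r, hux, hr, neg_mul, inv_mul_cancel₀ hr1]
    have h0b : f u (j *ᵥ w₀) = 0 := by
      rw [hw₀]
      simp only [Matrix.mulVec_smul, Matrix.mulVec_add, hsm_r, hadd_r, hjv, hneg_r, hux, hr]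
      ring
    refine ⟨w₀ + (f w₀ (j *ᵥ w₀) / 2) • (j *ᵥ u), ?_, ?_, ?_⟩
    · rw [hadd_r, hsm_r, huu, h0a]; ring
    · simp only [Matrix.mulVec_add, Matrix.mulVec_smul, hadd_r, hsm_r, hjv, hneg_r, hself, h0b]; ring
    · have e1 : f w₀ (j *ᵥ (j *ᵥ u)) = -1 := by rw [hjv, hneg_r, hskew, h0a, neg_neg]
      have e2 : f (j *ᵥ u) (j *ᵥ w₀) = -1 := by rw [hjj2, h0a]
      have e3 : f (j *ᵥ u) (j *ᵥ (j *ᵥ u)) = 0 := by rw [hjj2]; exact huu
      simp only [Matrix.mulVec_add, Matrix.mulVec_smul, hadd_l, hadd_r, hsm_l, hsm_r, e1, e2, e3]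
      field_simp
      ring
  let v : (Fin 2 → Fin 2) → (Fin 2 ⊕ Fin 2 → F) := fun x => (![![u, j *ᵥ u], ![w, j *ᵥ w]] (x 0)) (x 1)
  have hv : ∀ x y, formM (RingEquiv.refl F) (sympGram 2 F : Matrix _ _ F) (v x) (v y) =
      pureTensor ![qJ, (1 : Matrix (Fin 2) (Fin 2) F)] x y := by
    have hwu : f w u = 1 := by rw [hskew, hw1, neg_neg]
    have hwju : f w (j *ᵥ u) = 0 := by rw [hb]; exact hw2
    have hjuw : f (j *ᵥ u) w = 0 := by rw [hskew, hwju, neg_zero]
    have hjwu : f (j *ᵥ w) u = 0 := by rw [hskew, hw2, neg_zero]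
    have hjuu : f (j *ᵥ u) u = 0 := by rw [hskew, huu, neg_zero]
    have hjww : f (j *ᵥ w) w = 0 := by rw [hskew, hw3, neg_zero]
    intro x y
    rw [pure_two_apply, ← sympForm_eq, ← hf]
    obtain rfl | rfl | rfl | rfl := cases_two_two x <;> obtain rfl | rfl | rfl | rfl := cases_two_two y <;>
      simp [v, qJ, Matrix.one_apply, hjj2, hw1, hw2, hw3, huu, hwu, hwju, hjuw, hjwu, hjuu, hjww, hself]
  obtain ⟨e⟩ : Nonempty ((Fin 2 ⊕ Fin 2) ≃ (Fin 2 → Fin 2)) := ⟨Fintype.equivOfCardEq (by simp)⟩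
  obtain ⟨B, hG, hB⟩ := exists_frame_of_vectors e (isUnit_pure_two isUnit_qJ isUnit_one) v hv
  have hj : j = framed e B (pureTensor ![(1 : Matrix (Fin 2) (Fin 2) F), qJ]) := by
    have huj : IsUnit j := IsUnit.of_mul_eq_one (-j) (by rw [mul_neg, hjj, neg_neg])
    rw [← huj.unit_spec]
    refine eq_framed_of_fvec fun y => ?_
    have key : ∀ (c : F) (y' : Fin 2 → Fin 2),
        (∀ x, pureTensor ![(1 : Matrix (Fin 2) (Fin 2) F), qJ] x y = c * if x = y' then 1 else 0) →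
        j *ᵥ v y = c • v y' → (huj.unit : Matrix (Fin 2 ⊕ Fin 2) (Fin 2 ⊕ Fin 2) F) *ᵥ fvec e B y =
          (B : Matrix (Fin 2 ⊕ Fin 2) (Fin 2 ⊕ Fin 2) F) *ᵥ ((fun x => pureTensor ![(1 : Matrix (Fin 2) (Fin 2) F), qJ] x y) ∘ e) := by
      intro c y' hc hjy
      rw [hB, IsUnit.unit_spec, hjy, ← hB, fvec, ← Matrix.mulVec_smul]
      congr 1
      funext i
      simp only [Function.comp_apply, Pi.smul_apply, smul_eq_mul, hc, Pi.single_apply]
    obtain rfl | rfl | rfl | rfl := cases_two_two y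
    · refine key 1 ![0, 1] (fun x => ?_) (by simp [v])
      obtain rfl | rfl | rfl | rfl := cases_two_two x <;> simp [pure_two_apply, Matrix.one_apply, qJ]
    · refine key (-1) ![0, 0] (fun x => ?_) (by simp [v, hjv])
      obtain rfl | rfl | rfl | rfl := cases_two_two x <;> simp [pure_two_apply, Matrix.one_apply, qJ]
    · refine key 1 ![1, 1] (fun x => ?_) (by simp [v])
      obtain rfl | rfl | rfl | rfl := cases_two_two x <;> simp [pure_two_apply, Matrix.one_apply, qJ]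
    · refine key (-1) ![1, 0] (fun x => ?_) (by simp [v, hjv])
      obtain rfl | rfl | rfl | rfl := cases_two_two x <;> simp [pure_two_apply, Matrix.one_apply, qJ]
  refine four_case hq hH e B hG (fun a => ⟨1, Or.inl rfl, by rw [one_smul]; exact d8_isometry a⟩) fun g hgH => ?_
  rw [hle] at hgH
  obtain ⟨hgK, hgsp⟩ := hgH
  obtain ⟨M, hM⟩ : ∃ M, M = (inFrame e B g : Matrix (Fin 2 → Fin 2) (Fin 2 → Fin 2) F) := ⟨_, rfl⟩
  have hMg : (g : Matrix (Fin 2 ⊕ Fin 2) (Fin 2 ⊕ Fin 2) F) = framed e B M := by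
    rw [hM, framed_inFrame]
  have hinv : Mᵀ * pureTensor ![qJ, (1 : Matrix (Fin 2) (Fin 2) F)] * M = pureTensor ![qJ, 1] := by
    have h := gramIn_invariant (σ := RingEquiv.refl F) (G := sympGram 2 F) e B (g := g) ?_ hMg
    · rw [twist_refl, hG] at h; exact h
    · refine formM_injective (RingEquiv.refl F) fun u w => ?_
      rw [← formM_mulVec, ← sympForm_eq]
      exact hgsp u w
  -- the element carries `j` to plus or minus itself
  obtain ⟨ε, hε, hcomm⟩ : ∃ ε : F, ε * ε = 1 ∧ M * pureTensor ![(1 : Matrix (Fin 2) (Fin 2) F), qJ] =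
      ε • (pureTensor ![(1 : Matrix (Fin 2) (Fin 2) F), qJ] * M) := by
    have hx := (hgK j).mp hjK
    have hxx : ((g : Matrix _ _ F) * j * ((g⁻¹ : GL _ F) : Matrix _ _ F)) *
        ((g : Matrix _ _ F) * j * ((g⁻¹ : GL _ F) : Matrix _ _ F)) = -1 := by
      calc _ = (g : Matrix _ _ F) * j * (((g⁻¹ : GL _ F) : Matrix _ _ F) * (g : Matrix _ _ F)) *
            (j * ((g⁻¹ : GL _ F) : Matrix _ _ F)) := by simp only [mul_assoc]
        _ = (g : Matrix _ _ F) * (j * j) * ((g⁻¹ : GL _ F) : Matrix _ _ F) := by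
            rw [Units.inv_mul, mul_one]; simp only [mul_assoc]
        _ = -1 := by rw [hjj, mul_neg, mul_one, neg_mul, Units.mul_inv]
    obtain ⟨ε, hε, he⟩ : ∃ ε : F, ε * ε = 1 ∧
        (g : Matrix _ _ F) * j * ((g⁻¹ : GL _ F) : Matrix _ _ F) = ε • j := by
      rcases hroots _ hx hxx with h | h
      · exact ⟨1, one_mul 1, by rw [h, one_smul]⟩
      · exact ⟨-1, by simp, by rw [h, neg_one_smul]⟩
    refine ⟨ε, hε, (framed e B).injective ?_⟩
    rw [map_mul, map_smul, map_mul, ← hj, ← hMg, ← Matrix.smul_mul, ← he, Units.inv_mul_cancel_right]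
  have h11 : ∀ i l, M ![i, 1] ![l, 1] = ε * M ![i, 0] ![l, 0] := fun i l => by
    have h := congrFun (congrFun hcomm ![i, 1]) ![l, 0]
    fin_cases i <;> fin_cases l <;> simpa [Matrix.mul_apply, sum_two_two, pure_two_apply, Matrix.one_apply, qJ] using h
  have h01 : ∀ i l, M ![i, 0] ![l, 1] = -(ε * M ![i, 1] ![l, 0]) := fun i l => by
    have h := congrFun (congrFun hcomm ![i, 0]) ![l, 0]
    fin_cases i <;> fin_cases l <;> simpa [Matrix.mul_apply, sum_two_two, pure_two_apply, Matrix.one_apply, qJ] using h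
  obtain ⟨A, hA⟩ : ∃ A : Matrix (Fin 2) (Fin 2) F, A = Matrix.of fun i l => M ![i, 0] ![l, 0] := ⟨_, rfl⟩
  obtain ⟨A', hA'⟩ : ∃ A' : Matrix (Fin 2) (Fin 2) F, A' = Matrix.of fun i l => M ![i, 1] ![l, 0] := ⟨_, rfl⟩
  have hsum : A.det + A'.det = 1 := by
    have h := congrFun (congrFun hinv ![1, 0]) ![0, 0]
    simp [Matrix.mul_apply, sum_two_two, pure_two_apply, Matrix.one_apply, qJ] at h
    simp [Matrix.det_fin_two, hA, hA']
    linear_combination h
  obtain ⟨W, hW⟩ : ∃ W, W = Aᵀ * qJ * A' := ⟨_, rfl⟩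
  have hWsym : W = A'ᵀ * qJ * A := by
    rw [hW]
    ext i l
    have h := congrFun (congrFun hinv ![i, 0]) ![l, 1]
    have hε0 : ε ≠ 0 := fun h => by rw [h, zero_mul] at hε; exact zero_ne_one hε
    fin_cases i <;> fin_cases l <;>
      (simp [Matrix.mul_apply, sum_two_two, pure_two_apply, Matrix.one_apply, qJ, h11, h01] at h
       simp [Matrix.mul_apply, Fin.sum_univ_two, qJ, hA, hA']
       apply mul_left_cancel₀ hε0
       linear_combination -h)
  have hWskew : ∀ i l, W i l = -W l i := fun i l => by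
    have h : Wᵀ = -W := by
      conv_lhs => rw [hW, Matrix.transpose_mul, Matrix.transpose_mul, Matrix.transpose_transpose, qJ_transpose,
        neg_mul, mul_neg, ← mul_assoc, ← hWsym]
    rw [← Matrix.transpose_apply W l i, ← Matrix.neg_apply, ← h]
  obtain ⟨μ, hμ⟩ : ∃ μ : F, W = μ • qJ := by
    refine ⟨W 1 0, ?_⟩
    have hd : ∀ i, W i i = 0 := fun i =>
      (mul_eq_zero.mp (show (2 : F) * W i i = 0 by linear_combination hWskew i i)).resolve_left h2
    ext i l
    fin_cases i <;> fin_cases l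
    · simpa [qJ] using hd 0
    · simpa [qJ] using hWskew 0 1
    · simp [qJ]
    · simpa [qJ] using hd 1
  have hunit : ∀ X : Matrix (Fin 2) (Fin 2) F, X.det ≠ 0 → IsUnit (Xᵀ * qJ) := fun X hX => by
    rw [Matrix.isUnit_iff_isUnit_det, Matrix.det_mul, Matrix.det_transpose, isUnit_iff_ne_zero]
    simp [qJ, hX]
  have hD : ∀ (r k : F), r * r + k * k ≠ 0 → ∀ a, ∃ (η : F) (b : Fin 4), (η = 1 ∨ η = -1) ∧
      !![r, -(ε * k); k, ε * r] * d8 a = η • (d8 b * !![r, -(ε * k); k, ε * r]) := by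
    intro r k hrk
    refine similitude_normalises hq hrk ?_
    ext i l
    fin_cases i <;> fin_cases l <;> simp [Matrix.mul_apply, Fin.sum_univ_two]
    · ring
    · ring
    · linear_combination (r * r + k * k) * hε
  have hk1 : ∀ k : F, (1 : F) + k * k ≠ 0 := fun k h => by
    rcases cases_three hq k with rfl | rfl | rfl
    · simp at h
    · exact h2 (by linear_combination h)
    · exact h2 (by linear_combination h)
  by_cases hdet : A.det = 0
  · have hdet' : A'.det ≠ 0 := fun h => by rw [hdet, h, add_zero] at hsum; exact zero_ne_one hsum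
    obtain ⟨k, hk⟩ : ∃ k, A = k • A' := ⟨μ / A'.det, (hunit A' hdet').mul_left_cancel (by
      rw [← hWsym, hμ, Matrix.mul_smul, det_mul_skew, smul_smul, div_mul_cancel₀ _ hdet'])⟩
    refine ⟨A', _, hdet', hD k 1 (by rw [one_mul, add_comm]; exact hk1 k), ?_⟩
    rw [hMg]
    congr 1
    ext x y
    have hk' : ∀ i l, M ![i, 0] ![l, 0] = k * M ![i, 1] ![l, 0] := fun i l => by
      simpa [hA, hA'] using congrFun (congrFun hk i) l
    obtain rfl | rfl | rfl | rfl := cases_two_two x <;> obtain rfl | rfl | rfl | rfl := cases_two_two y <;>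
      simp [pure_two_apply, hA', h11, h01, hk'] <;> ring
  · obtain ⟨k, hk⟩ : ∃ k, A' = k • A := ⟨μ / A.det, (hunit A hdet).mul_left_cancel (by
      rw [← hW, hμ, Matrix.mul_smul, det_mul_skew, smul_smul, div_mul_cancel₀ _ hdet])⟩
    refine ⟨A, _, hdet, hD 1 k (by rw [one_mul]; exact hk1 k), ?_⟩
    rw [hMg]
    congr 1
    ext x y
    have hk' : ∀ i l, M ![i, 1] ![l, 0] = k * M ![i, 0] ![l, 0] := fun i l => by
      simpa [hA, hA'] using congrFun (congrFun hk i) l
    obtain rfl | rfl | rfl | rfl := cases_two_two x <;> obtain rfl | rfl | rfl | rfl := cases_two_two y <;>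
      simp [pure_two_apply, hA, h11, h01, hk'] <;> ring

end Cfsg.Agent.Lib.SympQuat
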