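import Cfsg.Agent.Lib.SympQuat.Frames

/-!
A symmetric form of plus type in four variables is the tensor square of the alternating form of the plane, its
similitudes permute the two factors, and so the stabiliser of `2 ⊗ 4` with such a form stabilises a tensor cube.
-/

set_option autoImplicit false

namespace Cfsg.Agent.Lib.SympQuat

open Cfsg Cfsg.Geo Matrix Cfsg.Agent.Lib.Aschbacher Cfsg.Agent.Lib.MaxClass
open scoped Kronecker

variable {F : Type*} [Field F]

/-- The Gram matrix of the tensor square of the alternating form of the plane. -/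
def plusGram : Matrix (Fin 2 → Fin 2) (Fin 2 → Fin 2) F := pureTensor ![qJ, qJ]

/-- A hyperbolic basis of a symmetric form of plus type in four variables. -/
theorem exists_plus_basis (h2 : (2 : F) ≠ 0) {f : (Fin 4 → F) → (Fin 4 → F) → F} (hf : IsSymmetricForm f)
    (hplus : IsPlusTypeOn (fun v : Fin 4 → F => f v v) ⊤) :
    ∃ v : (Fin 2 → Fin 2) → (Fin 4 → F), ∀ x y, f (v x) (v y) = plusGram x y := by
  obtain ⟨U, -, hUs, hUd⟩ := hplus
  rw [finrank_top, Module.finrank_fintype_fun_eq_card, Fintype.card_fin] at hUd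
  have hal := hf.bilinear.add_left
  have hsl := hf.bilinear.smul_left
  have har := hf.bilinear.add_right
  have hsr := hf.bilinear.smul_right
  have hsub_l : ∀ x y z, f (x - y) z = f x z - f y z := fun x y z => by
    rw [eq_sub_iff_add_eq, ← hal, sub_add_cancel]
  have hsub_r : ∀ z x y, f z (x - y) = f z x - f z y := fun z x y => by
    rw [eq_sub_iff_add_eq, ← har, sub_add_cancel]
  have hneg_l : ∀ x z, f (-x) z = -f x z := fun x z => by rw [← neg_one_smul F x, hsl]; ring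
  have hneg_r : ∀ z x, f z (-x) = -f z x := fun z x => by rw [← neg_one_smul F x, hsr]; ring
  have hts : ∀ x ∈ U, ∀ y ∈ U, f x y = 0 := fun x hx y hy => by
    have h := hUs (x + y) (add_mem hx hy)
    simp only [hal, har, show f x x = 0 from hUs x hx, show f y y = 0 from hUs y hy, hf.symm y x] at h
    exact (mul_eq_zero.mp (show (2 : F) * f x y = 0 by linear_combination h)).resolve_left h2
  let b := Module.finBasisOfFinrankEq F U (show Module.finrank F U = 2 by omega)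
  obtain ⟨u₀, hu₀⟩ : ∃ u₀ : Fin 4 → F, u₀ = (b 0 : Fin 4 → F) := ⟨_, rfl⟩
  obtain ⟨u₁, hu₁⟩ : ∃ u₁ : Fin 4 → F, u₁ = (b 1 : Fin 4 → F) := ⟨_, rfl⟩
  have h00 : f u₀ u₀ = 0 := hts _ (hu₀ ▸ (b 0).2) _ (hu₀ ▸ (b 0).2)
  have h11 : f u₁ u₁ = 0 := hts _ (hu₁ ▸ (b 1).2) _ (hu₁ ▸ (b 1).2)
  have h01 : f u₀ u₁ = 0 := hts _ (hu₀ ▸ (b 0).2) _ (hu₁ ▸ (b 1).2)
  have h10 : f u₁ u₀ = 0 := by rw [hf.symm, h01]
  have hu1 : u₁ ≠ 0 := fun h => b.ne_zero 1 (Subtype.ext (hu₁ ▸ h))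
  obtain ⟨y, hy⟩ : ∃ y, f u₁ y = 1 := by
    obtain ⟨-, z, hz⟩ := hf.nondegenerate u₁ hu1
    exact ⟨(f u₁ z)⁻¹ • z, by rw [hsr, inv_mul_cancel₀ hz]⟩
  obtain ⟨x, hx0, hx1⟩ : ∃ x, f u₀ x = 1 ∧ f u₁ x = 0 := by
    have hne : u₀ - f u₀ y • u₁ ≠ 0 := fun h => by
      have hb : b 0 - f u₀ y • b 1 = 0 := Subtype.ext (by
        rw [Submodule.coe_sub, Submodule.coe_smul, ← hu₀, ← hu₁]; exact h)
      have := Fintype.linearIndependent_iff.mp b.linearIndependent ![1, -f u₀ y] (by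
        simpa [Fin.sum_univ_two, sub_eq_add_neg] using hb) 0
      simp at this
    obtain ⟨-, z, hz⟩ := hf.nondegenerate _ hne
    rw [hsub_l, hsl] at hz
    refine ⟨(f u₀ z - f u₀ y * f u₁ z)⁻¹ • (z - f u₁ z • y), ?_, ?_⟩
    · rw [hsr, hsub_r, hsr, mul_comm (f u₁ z), inv_mul_cancel₀ hz]
    · rw [hsr, hsub_r, hsr, hy]; ring
  obtain ⟨v₀, hv₀⟩ : ∃ v₀, v₀ = x - (f x x / 2) • u₀ := ⟨_, rfl⟩
  obtain ⟨y', hy'⟩ : ∃ y', y' = y - f u₀ y • x := ⟨_, rfl⟩
  have hy'0 : f u₀ y' = 0 := by rw [hy', hsub_r, hsr, hx0, mul_one, sub_self]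
  have hy'1 : f u₁ y' = 1 := by rw [hy', hsub_r, hsr, hx1, hy]; ring
  obtain ⟨v₁, hv₁⟩ : ∃ v₁, v₁ = y' - (f y' y' / 2) • u₁ - f v₀ y' • u₀ := ⟨_, rfl⟩
  have a00 : f u₀ v₀ = 1 := by rw [hv₀, hsub_r, hsr, hx0, h00]; ring
  have a10 : f u₁ v₀ = 0 := by rw [hv₀, hsub_r, hsr, hx1, h10]; ring
  have a01 : f u₀ v₁ = 0 := by rw [hv₁, hsub_r, hsub_r, hsr, hsr, hy'0, h01, h00]; ring
  have a11 : f u₁ v₁ = 1 := by rw [hv₁, hsub_r, hsub_r, hsr, hsr, hy'1, h11, h10]; ring
  have c00 : f v₀ v₀ = 0 := by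
    rw [hv₀]
    simp only [hsub_l, hsub_r, hsl, hsr, hx0, hf.symm x u₀, h00]
    field_simp
    ring
  have c01 : f v₀ v₁ = 0 := by
    rw [hv₁, hsub_r, hsub_r, hsr, hsr, hf.symm v₀ u₁, a10, hf.symm v₀ u₀, a00]; ring
  have c11 : f v₁ v₁ = 0 := by
    have e1 : f y' u₁ = 1 := by rw [hf.symm, hy'1]
    have e0 : f y' u₀ = 0 := by rw [hf.symm, hy'0]
    rw [hv₁]
    simp only [hsub_l, hsub_r, hsl, hsr, hy'0, hy'1, e0, e1, h00, h01, h10, h11]
    field_simp
    ring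
  refine ⟨fun x => (![![u₀, u₁], ![-v₁, v₀]] (x 0)) (x 1), fun p q => ?_⟩
  have s := hf.symm
  obtain rfl | rfl | rfl | rfl := cases_two_two p <;> obtain rfl | rfl | rfl | rfl := cases_two_two q <;>
    simp [plusGram, pure_two_apply, qJ, hneg_l, hneg_r, h00, h01, h10, h11, a00, a01, a10, a11, c00, c01, c11,
      s v₀ u₀, s v₀ u₁, s v₁ u₀, s v₁ u₁, s v₁ v₀]

lemma form_plus (p q : (Fin 2 → Fin 2) → F) :
    formM (RingEquiv.refl F) plusGram p q =
      p ![0, 0] * q ![1, 1] + p ![1, 1] * q ![0, 0] - p ![0, 1] * q ![1, 0] - p ![1, 0] * q ![0, 1] := by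
  simp [formM, dotProduct, Matrix.mulVec, sum_two_two, plusGram, pure_two_apply, qJ]
  ring

lemma exists_rank_one {p : (Fin 2 → Fin 2) → F} (h2 : (2 : F) ≠ 0)
    (h : formM (RingEquiv.refl F) plusGram p p = 0) : ∃ a b : Fin 2 → F, ∀ x, p x = a (x 0) * b (x 1) := by
  rw [form_plus] at h
  have hd : p ![0, 0] * p ![1, 1] = p ![0, 1] * p ![1, 0] :=
    mul_left_cancel₀ h2 (by linear_combination h)
  by_cases h00 : p ![0, 0] = 0
  · rcases mul_eq_zero.mp (show p ![0, 1] * p ![1, 0] = 0 by rw [← hd, h00, zero_mul]) with h01 | h10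
    · refine ⟨![0, 1], ![p ![1, 0], p ![1, 1]], fun x => ?_⟩
      obtain rfl | rfl | rfl | rfl := cases_two_two x <;> simp [h00, h01]
    · refine ⟨![p ![0, 1], p ![1, 1]], ![0, 1], fun x => ?_⟩
      obtain rfl | rfl | rfl | rfl := cases_two_two x <;> simp [h00, h10]
  · refine ⟨![1, p ![1, 0] / p ![0, 0]], ![p ![0, 0], p ![0, 1]], fun x => ?_⟩
    obtain rfl | rfl | rfl | rfl := cases_two_two x <;> simp [h00]
    field_simp
    linear_combination hd

/-- The similitudes of the tensor square of the alternating form preserve or swap the two factors. -/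
theorem similitude_two_two (h2 : (2 : F) ≠ 0) {k : Matrix (Fin 2 → Fin 2) (Fin 2 → Fin 2) F} {l : F} (hl : l ≠ 0)
    (hk : kᵀ * plusGram * k = l • plusGram) :
    ∃ (π : Equiv.Perm (Fin 2)) (A B : Matrix (Fin 2) (Fin 2) F),
      A.det ≠ 0 ∧ B.det ≠ 0 ∧ k = monoM π ![A, B] := by
  have hcol : ∀ (m : Matrix (Fin 2 → Fin 2) (Fin 2 → Fin 2) F) x y,
      formM (RingEquiv.refl F) plusGram (fun i => m i x) (fun i => m i y) =
        (mᵀ * plusGram * m : Matrix (Fin 2 → Fin 2) (Fin 2 → Fin 2) F) x y := by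
    intro m x y
    rw [show (fun i => m i x) = m *ᵥ Pi.single x 1 by rw [Matrix.mulVec_single_one]; rfl,
      show (fun i => m i y) = m *ᵥ Pi.single y 1 by rw [Matrix.mulVec_single_one]; rfl, formM_mulVec, twist_refl,
      formM_single]
  obtain ⟨a, b, hab⟩ := exists_rank_one h2 (p := fun i => k i ![0, 0])
    (by rw [hcol, hk]; simp [plusGram, pure_two_apply, qJ])
  obtain ⟨a', b', hab'⟩ := exists_rank_one h2 (p := fun i => k i ![1, 1])
    (by rw [hcol, hk]; simp [plusGram, pure_two_apply, qJ])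
  obtain ⟨A, hA⟩ : ∃ A : Matrix (Fin 2) (Fin 2) F, A = Matrix.of fun i j => ![a, a'] j i := ⟨_, rfl⟩
  obtain ⟨B, hB⟩ : ∃ B : Matrix (Fin 2) (Fin 2) F, B = Matrix.of fun i j => ![b, b'] j i := ⟨_, rfl⟩
  have hdd : A.det * B.det = l := by
    have h := hcol k ![0, 0] ![1, 1]
    have e0 : ∀ x, k x ![0, 0] = a (x 0) * b (x 1) := hab
    have e1 : ∀ x, k x ![1, 1] = a' (x 0) * b' (x 1) := hab'
    rw [hk, form_plus] at h
    simp only [e0, e1] at h
    simp [plusGram, pure_two_apply, qJ] at h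
    simp [hA, hB, Matrix.det_fin_two]
    linear_combination h
  have hA0 : A.det ≠ 0 := left_ne_zero_of_mul (hdd ▸ hl)
  have hB0 : B.det ≠ 0 := right_ne_zero_of_mul (hdd ▸ hl)
  obtain ⟨k', hk'⟩ : ∃ k', k' = pureTensor ![A⁻¹, B⁻¹] * k := ⟨_, rfl⟩
  have hTT : pureTensor ![A, B] * k' = k := by
    rw [hk', ← mul_assoc, pureTensor_mul, show (![A, B] * ![A⁻¹, B⁻¹] : Fin 2 → Matrix (Fin 2) (Fin 2) F) = 1 by
      funext i
      fin_cases i
      · exact Matrix.mul_nonsing_inv A (isUnit_iff_ne_zero.mpr hA0)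
      · exact Matrix.mul_nonsing_inv B (isUnit_iff_ne_zero.mpr hB0), pureTensor_one, one_mul]
  have hT : (pureTensor ![A, B])ᵀ * plusGram * pureTensor ![A, B] = l • (plusGram : Matrix _ _ F) := by
    rw [plusGram, pureTensor_transpose, pureTensor_mul, pureTensor_mul, ← hdd,
      show (((fun i => (![A, B] i)ᵀ) * ![qJ, qJ]) * ![A, B]) = fun i => ![A.det, B.det] i • ![qJ, qJ] i by
        funext i; fin_cases i <;> exact det_mul_skew _,
      pureTensor_smul_family, Fin.prod_univ_two]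
    rfl
  have hinv : k'ᵀ * plusGram * k' = plusGram := by
    apply smul_right_injective _ hl
    show l • _ = l • _
    rw [← Matrix.smul_mul, ← Matrix.mul_smul, ← hT]
    conv_rhs => rw [hT, ← hk, ← hTT]
    rw [Matrix.transpose_mul]
    simp only [mul_assoc]
  -- the first and last columns are standard
  have hfix : ∀ y : Fin 2 → Fin 2, (∀ x, k x y = pureTensor ![A, B] x y) → ∀ x, k' x y = if x = y then 1 else 0 := by
    intro y hy x
    have h : (pureTensor ![A⁻¹, B⁻¹] * pureTensor ![A, B] : Matrix _ _ F) = 1 := by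
      rw [pureTensor_mul, show (![A⁻¹, B⁻¹] * ![A, B] : Fin 2 → Matrix (Fin 2) (Fin 2) F) = 1 by
        funext i
        fin_cases i
        · exact Matrix.nonsing_inv_mul A (isUnit_iff_ne_zero.mpr hA0)
        · exact Matrix.nonsing_inv_mul B (isUnit_iff_ne_zero.mpr hB0), pureTensor_one]
    rw [← Matrix.one_apply, ← h, hk', Matrix.mul_apply, Matrix.mul_apply]
    exact Finset.sum_congr rfl fun z _ => by rw [hy z]
  have hc0 := hfix ![0, 0] fun x => by rw [pure_two_apply, hab x, hA, hB]; simp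
  have hc1 := hfix ![1, 1] fun x => by rw [pure_two_apply, hab' x, hA, hB]; simp
  have hform : ∀ x y, formM (RingEquiv.refl F) plusGram (fun i => k' i x) (fun i => k' i y) = plusGram x y :=
    fun x y => by rw [hcol, hinv]
  have hz : ∀ y, y = ![0, 1] ∨ y = ![1, 0] → k' ![0, 0] y = 0 ∧ k' ![1, 1] y = 0 := by
    intro y hy
    constructor
    · have h := hform ![1, 1] y
      rw [form_plus] at h
      rcases hy with rfl | rfl <;> simpa [hc1, plusGram, pure_two_apply, qJ] using h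
    · have h := hform ![0, 0] y
      rw [form_plus] at h
      rcases hy with rfl | rfl <;> simpa [hc0, plusGram, pure_two_apply, qJ] using h
  obtain ⟨z01a, z01b⟩ := hz _ (Or.inl rfl)
  obtain ⟨z10a, z10b⟩ := hz _ (Or.inr rfl)
  obtain ⟨p, hp⟩ : ∃ p, k' ![0, 1] ![0, 1] = p := ⟨_, rfl⟩
  obtain ⟨r, hr⟩ : ∃ r, k' ![1, 0] ![0, 1] = r := ⟨_, rfl⟩
  obtain ⟨s, hs⟩ : ∃ s, k' ![0, 1] ![1, 0] = s := ⟨_, rfl⟩
  obtain ⟨u, hu⟩ : ∃ u, k' ![1, 0] ![1, 0] = u := ⟨_, rfl⟩
  have hpr : p * r = 0 := by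
    have h := hform ![0, 1] ![0, 1]
    rw [form_plus] at h
    simp [z01a, z01b, hp, hr, plusGram, pure_two_apply, qJ] at h
    exact (mul_eq_zero.mp (show (2 : F) * (p * r) = 0 by linear_combination -h)).resolve_left h2
  have hsu : s * u = 0 := by
    have h := hform ![1, 0] ![1, 0]
    rw [form_plus] at h
    simp [z10a, z10b, hs, hu, plusGram, pure_two_apply, qJ] at h
    exact (mul_eq_zero.mp (show (2 : F) * (s * u) = 0 by linear_combination -h)).resolve_left h2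
  have hone : p * u + r * s = 1 := by
    have h := hform ![0, 1] ![1, 0]
    rw [form_plus] at h
    simp [z01a, z01b, z10a, z10b, hp, hr, hs, hu, plusGram, pure_two_apply, qJ] at h
    linear_combination -h
  by_cases hr0 : r = 0
  · have hp0 : p ≠ 0 := fun h => by simp [h, hr0] at hone
    have hu1 : u = p⁻¹ := eq_inv_of_mul_eq_one_right (by rw [hr0, zero_mul, add_zero] at hone; exact hone)
    have hs0 : s = 0 := (mul_eq_zero.mp hsu).resolve_right (by rw [hu1]; exact inv_ne_zero hp0)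
    refine ⟨Equiv.refl _, A * !![1, 0; 0, p⁻¹], B * !![1, 0; 0, p],
      by simp [Matrix.det_mul, Matrix.det_fin_two_of, hA0, hp0],
      by simp [Matrix.det_mul, Matrix.det_fin_two_of, hB0, hp0], ?_⟩
    rw [monoM_refl, show (![A * !![1, 0; 0, p⁻¹], B * !![1, 0; 0, p]] : Fin 2 → Matrix (Fin 2) (Fin 2) F) =
      ![A, B] * ![!![1, 0; 0, p⁻¹], !![1, 0; 0, p]] by funext i; fin_cases i <;> rfl, ← pureTensor_mul, ← hTT]
    congr 1
    ext x y
    obtain rfl | rfl | rfl | rfl := cases_two_two x <;> obtain rfl | rfl | rfl | rfl := cases_two_two y <;>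
      simp [pure_two_apply, hc0, hc1, z01a, z01b, z10a, z10b, hp, hr, hs, hu, hr0, hs0, hu1, inv_mul_cancel₀ hp0]
  · have hp0 : p = 0 := (mul_eq_zero.mp hpr).resolve_right hr0
    have hs1 : s = r⁻¹ := eq_inv_of_mul_eq_one_right (by rw [hp0, zero_mul, zero_add] at hone; exact hone)
    have hu0 : u = 0 := (mul_eq_zero.mp hsu).resolve_left (by rw [hs1]; exact inv_ne_zero hr0)
    refine ⟨Equiv.swap 0 1, A * !![1, 0; 0, r], B * !![1, 0; 0, r⁻¹],
      by simp [Matrix.det_mul, Matrix.det_fin_two_of, hA0, hr0],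
      by simp [Matrix.det_mul, Matrix.det_fin_two_of, hB0, hr0], ?_⟩
    have hk'eq : k' = monoM (Equiv.swap 0 1) ![!![1, 0; 0, r], !![1, 0; 0, r⁻¹]] := by
      ext x y
      obtain rfl | rfl | rfl | rfl := cases_two_two x <;> obtain rfl | rfl | rfl | rfl := cases_two_two y <;>
        simp [monoM, Fin.prod_univ_two, hc0, hc1, z01a, z01b, z10a, z10b, hp, hr, hs, hu, hp0, hu0, hs1, mul_inv_cancel₀ hr0]
    rw [← hTT, hk'eq, ← monoM_refl, monoM_mul, Equiv.refl_trans]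
    congr 1
    funext i
    fin_cases i <;> rfl

variable {ι : Type} [Fintype ι] [DecidableEq ι]

lemma frame_sum {κ : Type} [Fintype κ] [DecidableEq κ] (e : ι ≃ κ) (B : GL ι F) (z : κ → F) :
    (B : Matrix ι ι F) *ᵥ (z ∘ e) = ∑ x, z x • fvec e B x := by
  have hz : z ∘ e = ∑ x, z x • ((Pi.single x 1 : κ → F) ∘ e) := by funext i; simp [Pi.single_apply]
  rw [hz, Matrix.mulVec_sum]
  exact Finset.sum_congr rfl fun x _ => Matrix.mulVec_smul _ _ _

/-- A tensor of two vectors. -/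
def tvec {n m : ℕ} (s : Fin n → F) (w : Fin m → F) : Fin n × Fin m → F := fun q => s q.1 * w q.2

lemma kron_mulVec_tvec {n m : ℕ} (A : Matrix (Fin n) (Fin n) F) (B : Matrix (Fin m) (Fin m) F) (s : Fin n → F)
    (w : Fin m → F) : (A ⊗ₖ B) *ᵥ tvec s w = tvec (A *ᵥ s) (B *ᵥ w) := by
  funext ⟨i, k⟩
  simp only [tvec, Matrix.mulVec, dotProduct, kroneckerMap_apply, Fintype.sum_prod_type, Finset.sum_mul_sum]
  refine Finset.sum_congr rfl fun p _ => Finset.sum_congr rfl fun q _ => ?_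
  ring

lemma formM_kron_tvec {n m : ℕ} (A : Matrix (Fin n) (Fin n) F) (B : Matrix (Fin m) (Fin m) F) (s s' : Fin n → F)
    (w w' : Fin m → F) :
    formM (RingEquiv.refl F) (A ⊗ₖ B) (tvec s w) (tvec s' w') =
      formM (RingEquiv.refl F) A s s' * formM (RingEquiv.refl F) B w w' := by
  simp only [formM, RingEquiv.refl_apply]
  rw [kron_mulVec_tvec]
  simp only [dotProduct, tvec, Fintype.sum_prod_type, Finset.sum_mul_sum]
  refine Finset.sum_congr rfl fun p _ => Finset.sum_congr rfl fun q _ => ?_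
  ring

variable [Fintype F] {m : ℕ}

local notation "ιS" => (Fin m ⊕ Fin m)

/-- With a plus-type factor of dimension four the stabiliser of `2 ⊗ 4` stabilises a tensor cube. -/
theorem exists_cube (h2 : (2 : F) ≠ 0) (e : ιS ≃ Fin 2 × Fin 4) (P : GL ιS F)
    {f₁ : (Fin 2 → F) → (Fin 2 → F) → F} {f₂ : (Fin 4 → F) → (Fin 4 → F) → F}
    (hf₁ : IsSymplecticForm f₁) (hf₂ : IsSymmetricForm f₂)
    (hplus : IsPlusTypeOn (fun v : Fin 4 → F => f₂ v v) ⊤)
    (hstr : IsTensorFormStructure id (sympForm m F) f₁ f₂ e P) :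
    ∃ (e₃ : ιS ≃ (Fin 3 → Fin 2)) (B : GL ιS F) (c : F), c ≠ 0 ∧
      gramIn (RingEquiv.refl F) (sympGram m F) e₃ B = c • pureTensor (fun _ : Fin 3 => (qJ : Matrix (Fin 2) (Fin 2) F)) ∧
      ∀ g ∈ tensorProductSubgroup 2 4 e P ⊓ spGL m F,
        ∃ (π : Equiv.Perm (Fin 3)) (gs : Fin 3 → GL (Fin 2) F),
          (g : Matrix ιS ιS F) = framed e₃ B (monoM π fun i => (gs i : Matrix (Fin 2) (Fin 2) F)) := by
  classical
  obtain ⟨G₁, hfG₁, hG₁⟩ := exists_gram_bilinear hf₁.bilinear hf₁.nondegenerate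
  obtain ⟨G₂, hfG₂, hG₂⟩ := exists_gram_bilinear hf₂.bilinear hf₂.nondegenerate
  obtain ⟨c, hc, hT⟩ := hstr
  obtain ⟨G₁', hG₁'⟩ : ∃ G₁' : GL (Fin 2) F, (G₁' : Matrix (Fin 2) (Fin 2) F) = c • (G₁ : Matrix (Fin 2) (Fin 2) F) :=
    ⟨⟨c • (G₁ : Matrix (Fin 2) (Fin 2) F), c⁻¹ • ((G₁⁻¹ : GL (Fin 2) F) : Matrix (Fin 2) (Fin 2) F),
      by rw [Matrix.smul_mul, Matrix.mul_smul, smul_smul, mul_inv_cancel₀ hc, Units.mul_inv, one_smul],
      by rw [Matrix.smul_mul, Matrix.mul_smul, smul_smul, inv_mul_cancel₀ hc, Units.inv_mul, one_smul]⟩, rfl⟩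
  have hgram : gramIn (RingEquiv.refl F) (sympGram m F) e P =
      (G₁' : Matrix (Fin 2) (Fin 2) F) ⊗ₖ (G₂ : Matrix (Fin 4) (Fin 4) F) := by
    refine formM_injective (RingEquiv.refl F) fun x y => ?_
    rw [← formM_frame, ← sympForm_eq, hT x y, hG₁', Matrix.smul_kronecker, formM_smul, ← hG₁, ← hG₂]
    congr 1
    exact formOfGram_eq (RingEquiv.refl F) _ x y
  obtain ⟨r, hr, hJ⟩ : ∃ r : F, r ≠ 0 ∧ (G₁ : Matrix (Fin 2) (Fin 2) F) = r • qJ := by
    refine ⟨(G₁ : Matrix (Fin 2) (Fin 2) F) 1 0, fun h0 => ?_, ?_⟩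
    · have hdet : (G₁ : Matrix (Fin 2) (Fin 2) F).det = 0 := by
        rw [Matrix.det_fin_two, h0, mul_zero, hG₁]
        simp [gramMatrix, hf₁.alternating]
      exact ((Matrix.isUnit_iff_isUnit_det _).mp G₁.isUnit).ne_zero hdet
    · ext i j
      rw [hG₁]
      fin_cases i <;> fin_cases j <;> simp [gramMatrix, qJ, hf₁.alternating]
      exact hf₁.skew _ _
  -- hyperbolic frame of the second factor
  obtain ⟨γ, hγ⟩ := exists_plus_basis h2 hf₂ hplus
  obtain ⟨e₄⟩ : Nonempty (Fin 4 ≃ (Fin 2 → Fin 2)) := ⟨Fintype.equivOfCardEq (by simp)⟩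
  obtain ⟨C, hC, hCγ⟩ := exists_frame_of_vectors e₄ (G := G₂)
    (isUnit_pure_two isUnit_qJ isUnit_qJ) γ (fun x y => by rw [← hfG₂]; exact hγ x y)
  -- the combined frame
  obtain ⟨e₃⟩ : Nonempty (ιS ≃ (Fin 3 → Fin 2)) := ⟨Fintype.equivOfCardEq (by
    rw [Fintype.card_congr e]; simp)⟩
  have hp3 : ∀ p q : Fin 3 → Fin 2, pureTensor (fun _ : Fin 3 => (qJ : Matrix (Fin 2) (Fin 2) F)) p q =
      qJ (p 0) (q 0) * plusGram (Fin.tail p) (Fin.tail q) := fun p q => by
    simp [pureTensor, plusGram, Fin.prod_univ_three, Fin.prod_univ_two, Fin.tail, mul_assoc]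
  let v : (Fin 3 → Fin 2) → (ιS → F) := fun x =>
    (P : Matrix ιS ιS F) *ᵥ (tvec (Pi.single (x 0) 1) (γ (Fin.tail x)) ∘ e)
  have hunit : IsUnit ((c * r) • pureTensor (fun _ : Fin 3 => (qJ : Matrix (Fin 2) (Fin 2) F))) := by
    refine IsUnit.of_mul_eq_one ((c * r)⁻¹ • pureTensor
      (fun _ : Fin 3 => ((isUnit_qJ.unit⁻¹ : GL (Fin 2) F) : Matrix (Fin 2) (Fin 2) F))) ?_
    rw [Matrix.smul_mul, Matrix.mul_smul, smul_smul, mul_inv_cancel₀ (mul_ne_zero hc hr), one_smul, pureTensor_mul,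
      ← pureTensor_one]
    congr 1
    funext i
    exact IsUnit.mul_val_inv _
  obtain ⟨B, hB, hBv⟩ := exists_frame_of_vectors e₃ (G := sympGram m F) hunit v (fun x y => by
    rw [formM_frame, hgram, formM_kron_tvec, formM_single, hG₁', hJ, ← hfG₂, hγ]
    simp only [Matrix.smul_apply, smul_eq_mul, hp3]
    ring)
  refine ⟨e₃, B, c * r, mul_ne_zero hc hr, hB, fun g hg => ?_⟩
  obtain ⟨hgT, hgsp⟩ := hg
  obtain ⟨a, b, l, hl, hgv, -, hb⟩ := exists_similitudes hgram hgT (by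
    refine formM_injective (RingEquiv.refl F) fun u w => ?_
    rw [← formM_mulVec, ← sympForm_eq]
    exact hgsp u w)
  rw [twist_refl] at hb
  have hb' : (b : Matrix (Fin 4) (Fin 4) F)ᵀ * (G₂ : Matrix (Fin 4) (Fin 4) F) * (b : Matrix (Fin 4) (Fin 4) F) =
      l⁻¹ • (G₂ : Matrix (Fin 4) (Fin 4) F) := by
    conv_rhs => rw [← hb]
    rw [smul_smul, inv_mul_cancel₀ hl, one_smul]
  obtain ⟨k, hk⟩ : ∃ k, k = (inFrame e₄ C b : Matrix (Fin 2 → Fin 2) (Fin 2 → Fin 2) F) := ⟨_, rfl⟩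
  have hbk : (b : Matrix (Fin 4) (Fin 4) F) = framed e₄ C k := by rw [hk, framed_inFrame]
  have hksim : kᵀ * plusGram * k = l⁻¹ • plusGram := by
    refine formM_injective (RingEquiv.refl F) fun x y => ?_
    rw [show (plusGram : Matrix (Fin 2 → Fin 2) (Fin 2 → Fin 2) F) = gramIn (RingEquiv.refl F) G₂ e₄ C from hC.symm]
    nth_rewrite 2 [← twist_refl k]
    rw [← formM_mulVec, ← formM_frame, ← framed_mulVec_comp, ← framed_mulVec_comp, ← hbk, formM_mulVec, twist_refl,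
      hb', formM_smul, formM_smul, formM_frame]
  obtain ⟨π, A, B', hA, hB', hkm⟩ := similitude_two_two h2 (inv_ne_zero hl) hksim
  obtain ⟨π₃, hπ0, hπs⟩ : ∃ π₃ : Equiv.Perm (Fin 3), π₃ 0 = 0 ∧ ∀ i : Fin 2, π₃ i.succ = (π i).succ := by
    refine ⟨Equiv.Perm.decomposeFin.symm (0, π), ?_, fun i => ?_⟩
    · simp
    · simp
  refine ⟨π₃, Fin.cons a ![Matrix.GeneralLinearGroup.mkOfDetNeZero A hA,
    Matrix.GeneralLinearGroup.mkOfDetNeZero B' hB'], eq_framed_of_fvec fun y => ?_⟩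
  have hM : ∀ x, monoM π₃ (fun i => ((Fin.cons a ![Matrix.GeneralLinearGroup.mkOfDetNeZero A hA,
      Matrix.GeneralLinearGroup.mkOfDetNeZero B' hB'] : Fin 3 → GL (Fin 2) F) i : Matrix (Fin 2) (Fin 2) F)) x y =
      (a : Matrix (Fin 2) (Fin 2) F) (x 0) (y 0) * k (Fin.tail x) (Fin.tail y) := fun x => by
    rw [hkm]
    rw [monoM, monoM, Matrix.of_apply, Matrix.of_apply, Fin.prod_univ_succ, hπ0]
    congr 1
    refine Finset.prod_congr rfl fun i _ => ?_
    rw [hπs]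
    fin_cases i <;> rfl
  rw [hBv, hgv, frame_sum]
  simp only [v, framed_mulVec_comp, kron_mulVec_tvec, hM, hBv, ← Matrix.mulVec_smul, ← Matrix.mulVec_sum]
  congr 1
  funext i
  have hbγ : (b : Matrix (Fin 4) (Fin 4) F) *ᵥ γ (Fin.tail y) = ∑ x, k x (Fin.tail y) • γ x := by
    rw [← hCγ, mulVec_fvec hbk, frame_sum]
    exact Finset.sum_congr rfl fun x _ => by rw [hCγ]
  simp only [Function.comp_apply, Finset.sum_apply, Pi.smul_apply, smul_eq_mul, tvec, hbγ,
    Matrix.mulVec_single_one]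
  rw [← (Fin.consEquiv fun _ : Fin 3 => Fin 2).sum_comp, Fintype.sum_prod_type, Finset.mul_sum]
  rw [Finset.sum_eq_single (e i).1]
  · refine Finset.sum_congr rfl fun x _ => ?_
    simp [Fin.consEquiv]
    ring
  · intro p _ hp
    exact Finset.sum_eq_zero fun x _ => by simp [Fin.consEquiv, Ne.symm hp]
  · simp

/-- A pure tensor composed with a permutation of the factors stabilises the tensor power. -/
theorem mem_wreath_of_monoM {ι : Type} [Fintype ι] [DecidableEq ι] {t d : ℕ} (e : ι ≃ (Fin t → Fin d)) (B : GL ι F)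
    {g : GL ι F} {π : Equiv.Perm (Fin t)} {gs : Fin t → GL (Fin d) F}
    (hg : (g : Matrix ι ι F) = framed e B (monoM π fun i => (gs i : Matrix (Fin d) (Fin d) F))) :
    g ∈ tensorWreathSubgroup d t e B := by
  classical
  let T : GL (Fin t → Fin d) F :=
    ⟨pureTensor fun i => (gs i : Matrix (Fin d) (Fin d) F),
      pureTensor fun i => (((gs i)⁻¹ : GL (Fin d) F) : Matrix (Fin d) (Fin d) F),
      by rw [pureTensor_mul, ← pureTensor_one]; congr 1; funext i; simp,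
      by rw [pureTensor_mul, ← pureTensor_one]; congr 1; funext i; simp⟩
  have hperm : ((permGL (factorPerm (d := d) π.symm) : GL (Fin t → Fin d) F) :
      Matrix (Fin t → Fin d) (Fin t → Fin d) F) = monoM π 1 := by
    ext x y
    have hl : ((permGL (factorPerm (d := d) π.symm) : GL (Fin t → Fin d) F) :
        Matrix (Fin t → Fin d) (Fin t → Fin d) F) x y =
        (1 : Matrix (Fin t → Fin d) (Fin t → Fin d) F) (x ∘ π.symm) y := rfl
    rw [hl]
    show _ = ∏ i, (1 : Matrix (Fin d) (Fin d) F) (x i) (y (π i))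
    by_cases h : x ∘ π.symm = y
    · subst h
      rw [Matrix.one_apply_eq]
      exact (Finset.prod_eq_one fun i _ => by rw [Function.comp_apply, Equiv.symm_apply_apply, Matrix.one_apply_eq]).symm
    · rw [Matrix.one_apply_ne h]
      obtain ⟨i, hi⟩ := Function.ne_iff.mp h
      refine (Finset.prod_eq_zero (Finset.mem_univ (π.symm i)) ?_).symm
      rw [Matrix.one_apply_ne]
      simpa using hi
  refine mem_map_glReindex_conj (k := T * permGL (factorPerm π.symm)) (Subgroup.mul_mem _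
    (Subgroup.subset_closure (Or.inl ⟨gs, fun x y => rfl⟩))
    (Subgroup.subset_closure (Or.inr ⟨π.symm, fun x y => ?_⟩))) ?_
  · simp [permGL, factorPerm, Matrix.one_apply, eq_comm]
  · rw [hg, Units.val_mul, hperm]
    show _ = framed e B (monoM (Equiv.refl _) _ * monoM π 1)
    rw [monoM_mul, Equiv.refl_trans]
    congr 2
    funext i
    simp

end Cfsg.Agent.Lib.SympQuat
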