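import Cfsg.Agent.Lib.SympQuat.Table
import Cfsg.Agent.Lib.MaxClass.SympMax
import Cfsg.Agent.Lib.Aschbacher.SympCases

/-!
The quaternion and dihedral tables over the field of three elements, the matrices normalising them, and the
resulting normalisers inside symplectic groups.
-/

set_option autoImplicit false

namespace Cfsg.Agent.Lib.SympQuat

open Cfsg Cfsg.Geo Matrix Cfsg.Agent.Lib.Aschbacher Cfsg.Agent.Lib.MaxClass

variable {F : Type*} [Field F]

/-- The alternating form of the plane. -/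
def qJ : Matrix (Fin 2) (Fin 2) F := !![0, -1; 1, 0]

/-- The split symmetric form of the plane. -/
def qS : Matrix (Fin 2) (Fin 2) F := !![0, 1; 1, 0]

/-- Two anticommuting matrices and their product. -/
def genTable (x y : Matrix (Fin 2) (Fin 2) F) : Fin 4 → Matrix (Fin 2) (Fin 2) F := ![1, x, y, x * y]

/-- The quaternion table over three elements. -/
def q8 : Fin 4 → Matrix (Fin 2) (Fin 2) F := genTable qJ !![1, 1; 1, -1]

/-- The dihedral table. -/
def d8 : Fin 4 → Matrix (Fin 2) (Fin 2) F := genTable qJ !![1, 0; 0, -1]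

lemma isPauliTable_genTable {x y : Matrix (Fin 2) (Fin 2) F} {s : F} (hs : s = 1 ∨ s = -1) (hx : x * x = -1)
    (hy : y * y = s • 1) (hxy : y * x = -(x * y))
    (hspan : ∀ M : Matrix (Fin 2) (Fin 2) F, ∃ c : Fin 4 → F, M = ∑ a, c a • genTable x y a) :
    IsPauliTable (genTable x y) := by
  have hns : -s = 1 ∨ -s = -1 := by rcases hs with rfl | rfl <;> simp
  have h13 : x * (x * y) = -y := by rw [← mul_assoc, hx, neg_one_mul]
  have h23 : y * (x * y) = (-s) • x := by
    rw [← mul_assoc, hxy, neg_mul, mul_assoc, hy, Matrix.mul_smul, mul_one, neg_smul]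
  have h31 : x * y * x = y := by rw [mul_assoc, hxy, mul_neg, h13, neg_neg]
  have h32 : x * y * y = s • x := by rw [mul_assoc, hy, Matrix.mul_smul, mul_one]
  have h33 : x * y * (x * y) = s • 1 := by rw [← mul_assoc, h31, hy]
  refine ⟨rfl, fun a b => ?_, fun a => ?_, fun a b => ?_, hspan⟩
  · fin_cases a <;> fin_cases b
    · exact ⟨1, 0, Or.inl rfl, by simp [genTable]⟩
    · exact ⟨1, 1, Or.inl rfl, by simp [genTable]⟩
    · exact ⟨1, 2, Or.inl rfl, by simp [genTable]⟩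
    · exact ⟨1, 3, Or.inl rfl, by simp [genTable]⟩
    · exact ⟨1, 1, Or.inl rfl, by simp [genTable]⟩
    · exact ⟨-1, 0, Or.inr rfl, by simp [genTable, hx]⟩
    · exact ⟨1, 3, Or.inl rfl, by simp [genTable]⟩
    · exact ⟨-1, 2, Or.inr rfl, by simp [genTable, h13]⟩
    · exact ⟨1, 2, Or.inl rfl, by simp [genTable]⟩
    · exact ⟨-1, 3, Or.inr rfl, by simp [genTable, hxy]⟩
    · exact ⟨s, 0, hs, by simp [genTable, hy]⟩
    · exact ⟨-s, 1, hns, by simp [genTable, h23]⟩
    · exact ⟨1, 3, Or.inl rfl, by simp [genTable]⟩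
    · exact ⟨1, 2, Or.inl rfl, by simp [genTable, h31]⟩
    · exact ⟨s, 1, hs, by simp [genTable, h32]⟩
    · exact ⟨s, 0, hs, by simp [genTable, h33]⟩
  · fin_cases a
    · exact Or.inl (by simp [genTable])
    · exact Or.inr (by simp [genTable, hx])
    · rcases hs with rfl | rfl
      · exact Or.inl (by simp [genTable, hy])
      · exact Or.inr (by simp [genTable, hy])
    · rcases hs with rfl | rfl
      · exact Or.inl (by simp [genTable, h33])
      · exact Or.inr (by simp [genTable, h33])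
  · fin_cases a <;> fin_cases b <;>
      first
        | (left; simp [genTable]; done)
        | (right; simp [genTable, hxy, h13, h23, h31, h32]; done)

lemma isPauliTable_d8 (h2 : (2 : F) ≠ 0) : IsPauliTable (d8 (F := F)) := by
  refine isPauliTable_genTable (s := 1) (Or.inl rfl) ?_ ?_ ?_ fun M =>
    ⟨![(M 0 0 + M 1 1) / 2, (M 1 0 - M 0 1) / 2, (M 0 0 - M 1 1) / 2, (M 0 1 + M 1 0) / 2], ?_⟩
  all_goals
    ext i j
    fin_cases i <;> fin_cases j <;>
      first
        | (simp [qJ, Matrix.mul_apply, Fin.sum_univ_two]; done)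
        | (simp [genTable, qJ, Matrix.sum_apply, Fin.sum_univ_four, Matrix.mul_apply, Fin.sum_univ_two]; field_simp; ring)

lemma isPauliTable_q8 (h3 : (3 : F) = 0) (h2 : (2 : F) ≠ 0) : IsPauliTable (q8 (F := F)) := by
  have h4 : (4 : F) ≠ 0 := fun h => h2 (mul_self_eq_zero.mp (by linear_combination h))
  refine isPauliTable_genTable (s := -1) (Or.inr rfl) ?_ ?_ ?_ fun M =>
    ⟨![(M 0 0 + M 1 1) / 2, (M 1 0 - M 0 1) / 2, (M 0 0 + M 0 1 + M 1 0 - M 1 1) / 4,
      (M 0 1 + M 1 0 - M 0 0 + M 1 1) / 4], ?_⟩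
  all_goals
    ext i j
    fin_cases i <;> fin_cases j <;>
      first
        | (simp [qJ, Matrix.mul_apply, Fin.sum_univ_two]; done)
        | (simp [qJ, Matrix.mul_apply, Fin.sum_univ_two]; linear_combination h3)
        | (simp [genTable, qJ, Matrix.sum_apply, Fin.sum_univ_four, Matrix.mul_apply, Fin.sum_univ_two]; field_simp; ring)

lemma q8_isometry (h3 : (3 : F) = 0) (a : Fin 4) :
    (q8 a)ᵀ * qJ * q8 a = (qJ : Matrix (Fin 2) (Fin 2) F) := by
  ext i j
  fin_cases a <;> fin_cases i <;> fin_cases j <;>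
    first
      | (simp [q8, genTable, qJ, Matrix.mul_apply, Fin.sum_univ_two]; done)
      | (simp [q8, genTable, qJ, Matrix.mul_apply, Fin.sum_univ_two]; linear_combination h3)
      | (simp [q8, genTable, qJ, Matrix.mul_apply, Fin.sum_univ_two]; linear_combination -h3)

lemma d8_isometry (a : Fin 4) : (d8 a)ᵀ * 1 * d8 a = (1 : Matrix (Fin 2) (Fin 2) F) := by
  ext i j
  fin_cases a <;> fin_cases i <;> fin_cases j <;>
    simp [d8, genTable, qJ, Matrix.mul_apply, Fin.sum_univ_two]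

lemma d8_split (a : Fin 4) :
    ∃ η : F, (η = 1 ∨ η = -1) ∧ (d8 a)ᵀ * qS * d8 a = η • (qS : Matrix (Fin 2) (Fin 2) F) := by
  refine ⟨![1, -1, -1, 1] a, by fin_cases a <;> simp, ?_⟩
  ext i j
  fin_cases a <;> fin_cases i <;> fin_cases j <;>
    simp [d8, genTable, qJ, qS, Matrix.mul_apply, Fin.sum_univ_two]

lemma cases_three [Fintype F] (hq : Fintype.card F = 3) (z : F) : z = 0 ∨ z = 1 ∨ z = -1 := by
  rcases eq_or_ne z 0 with hz | hz
  · exact Or.inl hz
  · have h := FiniteField.pow_card_sub_one_eq_one z hz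
    rw [hq] at h
    exact Or.inr (mul_self_eq_one_iff.mp (by rw [← pow_two]; simpa using h))

lemma three_zero [Fintype F] (hq : Fintype.card F = 3) : (3 : F) = 0 := by
  have h := Nat.cast_card_eq_zero F
  rw [hq] at h
  exact_mod_cast h

lemma two_ne [Fintype F] (hq : Fintype.card F = 3) : (2 : F) ≠ 0 := fun h =>
  one_ne_zero (α := F) (by linear_combination three_zero hq - h)

/-- A monomial matrix over three elements is a signed member of the dihedral table. -/
lemma exists_d8 [Fintype F] (hq : Fintype.card F = 3) {g : Matrix (Fin 2) (Fin 2) F}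
    (hm : (g 0 1 = 0 ∧ g 1 0 = 0 ∧ g 0 0 ≠ 0 ∧ g 1 1 ≠ 0) ∨
      (g 0 0 = 0 ∧ g 1 1 = 0 ∧ g 0 1 ≠ 0 ∧ g 1 0 ≠ 0)) :
    ∃ (η : F) (b : Fin 4), (η = 1 ∨ η = -1) ∧ g = η • d8 b := by
  have hu : ∀ z : F, z ≠ 0 → z = 1 ∨ z = -1 := fun z hz => (cases_three hq z).resolve_left hz
  rcases hm with ⟨h01, h10, hp, hs⟩ | ⟨h00, h11, hp, hs⟩
  · rcases hu _ hp with hp | hp <;> rcases hu _ hs with hs | hs
    · exact ⟨1, 0, Or.inl rfl, by ext i j; fin_cases i <;> fin_cases j <;> simp [d8, genTable, qJ, *]⟩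
    · exact ⟨1, 2, Or.inl rfl, by ext i j; fin_cases i <;> fin_cases j <;> simp [d8, genTable, qJ, *]⟩
    · exact ⟨-1, 2, Or.inr rfl, by ext i j; fin_cases i <;> fin_cases j <;> simp [d8, genTable, qJ, *]⟩
    · exact ⟨-1, 0, Or.inr rfl, by ext i j; fin_cases i <;> fin_cases j <;> simp [d8, genTable, qJ, *]⟩
  · rcases hu _ hp with hp | hp <;> rcases hu _ hs with hs | hs
    · exact ⟨1, 3, Or.inl rfl, by
        ext i j; fin_cases i <;> fin_cases j <;> simp [d8, genTable, qJ, Matrix.mul_apply, Fin.sum_univ_two, *]⟩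
    · exact ⟨-1, 1, Or.inr rfl, by ext i j; fin_cases i <;> fin_cases j <;> simp [d8, genTable, qJ, *]⟩
    · exact ⟨1, 1, Or.inl rfl, by ext i j; fin_cases i <;> fin_cases j <;> simp [d8, genTable, qJ, *]⟩
    · exact ⟨-1, 3, Or.inr rfl, by
        ext i j; fin_cases i <;> fin_cases j <;> simp [d8, genTable, qJ, Matrix.mul_apply, Fin.sum_univ_two, *]⟩

lemma monomial_normalises [Fintype F] (hq : Fintype.card F = 3) {g : Matrix (Fin 2) (Fin 2) F}
    (hm : (g 0 1 = 0 ∧ g 1 0 = 0 ∧ g 0 0 ≠ 0 ∧ g 1 1 ≠ 0) ∨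
      (g 0 0 = 0 ∧ g 1 1 = 0 ∧ g 0 1 ≠ 0 ∧ g 1 0 ≠ 0))
    (a : Fin 4) : ∃ (η : F) (b : Fin 4), (η = 1 ∨ η = -1) ∧ g * d8 a = η • (d8 b * g) := by
  obtain ⟨ε, c, -, rfl⟩ := exists_d8 hq hm
  rcases (isPauliTable_d8 (two_ne hq)).comm c a with h | h
  · exact ⟨1, a, Or.inl rfl, by rw [Matrix.smul_mul, Matrix.mul_smul, h, one_smul]⟩
  · exact ⟨-1, a, Or.inr rfl, by rw [Matrix.smul_mul, Matrix.mul_smul, h, smul_neg, neg_smul, one_smul]⟩

/-- Similitudes of the sum of two squares normalise the dihedral table. -/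
lemma similitude_normalises [Fintype F] (hq : Fintype.card F = 3) {g : Matrix (Fin 2) (Fin 2) F} {c : F}
    (hc : c ≠ 0) (hg : gᵀ * g = c • 1) (a : Fin 4) :
    ∃ (η : F) (b : Fin 4), (η = 1 ∨ η = -1) ∧ g * d8 a = η • (d8 b * g) := by
  obtain ⟨gi, hgi⟩ : ∃ gi, gi = c⁻¹ • gᵀ := ⟨_, rfl⟩
  have hgig : gi * g = 1 := by rw [hgi, Matrix.smul_mul, hg, smul_smul, inv_mul_cancel₀ hc, one_smul]
  have hggi : g * gi = 1 := mul_eq_one_comm.mp hgig
  obtain ⟨h, hh⟩ : ∃ h, h = g * d8 a * gi := ⟨_, rfl⟩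
  have hd : (d8 a)ᵀ * d8 a = (1 : Matrix (Fin 2) (Fin 2) F) := by simpa using d8_isometry (F := F) a
  have horth : hᵀ * h = 1 := by
    calc hᵀ * h = giᵀ * ((d8 a)ᵀ * (gᵀ * g) * d8 a) * gi := by
          rw [hh, Matrix.transpose_mul, Matrix.transpose_mul]; simp only [mul_assoc]
      _ = c • (giᵀ * gi) := by
          rw [hg, Matrix.mul_smul, mul_one, Matrix.smul_mul, hd, Matrix.mul_smul, mul_one, Matrix.smul_mul]
      _ = giᵀ * (gᵀ * g) * gi := by rw [hg, Matrix.mul_smul, mul_one, Matrix.smul_mul]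
      _ = 1 := by rw [← mul_assoc, ← Matrix.transpose_mul, hggi, mul_assoc, hggi, Matrix.transpose_one, one_mul]
  have h00 : h 0 0 * h 0 0 + h 1 0 * h 1 0 = 1 := by
    simpa [Matrix.mul_apply, Fin.sum_univ_two] using congrFun (congrFun horth 0) 0
  have h01 : h 0 0 * h 0 1 + h 1 0 * h 1 1 = 0 := by
    simpa [Matrix.mul_apply, Fin.sum_univ_two] using congrFun (congrFun horth 0) 1
  have h11 : h 0 1 * h 0 1 + h 1 1 * h 1 1 = 1 := by
    simpa [Matrix.mul_apply, Fin.sum_univ_two] using congrFun (congrFun horth 1) 1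
  have hsq : ∀ z : F, z ≠ 0 → z * z = 1 := fun z hz => by
    rcases (cases_three hq z).resolve_left hz with rfl | rfl <;> simp
  have hm : (h 0 1 = 0 ∧ h 1 0 = 0 ∧ h 0 0 ≠ 0 ∧ h 1 1 ≠ 0) ∨
      (h 0 0 = 0 ∧ h 1 1 = 0 ∧ h 0 1 ≠ 0 ∧ h 1 0 ≠ 0) := by
    by_cases hp : h 0 0 = 0
    · have hr : h 1 0 ≠ 0 := fun h0 => by simp [hp, h0] at h00
      have hs : h 1 1 = 0 := by simpa [hp, hr] using h01
      exact Or.inr ⟨hp, hs, fun h0 => by simp [hs, h0] at h11, hr⟩
    · have hr : h 1 0 = 0 := by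
        by_contra hr
        rw [hsq _ hp, hsq _ hr] at h00
        exact one_ne_zero (α := F) (by linear_combination h00)
      have hq0 : h 0 1 = 0 := by simpa [hr, hp] using h01
      exact Or.inl ⟨hq0, hr, hp, fun h0 => by simp [hq0, h0] at h11⟩
  obtain ⟨η, b, hη, hb⟩ := exists_d8 hq hm
  exact ⟨η, b, hη, by rw [← Matrix.smul_mul, ← hb, hh, mul_assoc, hgig, mul_one]⟩

/-- Over three elements every invertible matrix normalises the quaternion table. -/
lemma gl_normalises [Fintype F] (hq : Fintype.card F = 3) {g : Matrix (Fin 2) (Fin 2) F} (hg : g.det ≠ 0)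
    (a : Fin 4) : ∃ (η : F) (b : Fin 4), (η = 1 ∨ η = -1) ∧ g * q8 a = η • (q8 b * g) := by
  have h3 := three_zero hq
  rcases eq_or_ne a 0 with rfl | ha
  · exact ⟨1, 0, Or.inl rfl, by simp [q8, genTable]⟩
  have hu : IsUnit g.det := isUnit_iff_ne_zero.mpr hg
  obtain ⟨h, hh⟩ : ∃ h, h = g * q8 a * g⁻¹ := ⟨_, rfl⟩
  have haa : q8 a * q8 a = (-1 : Matrix (Fin 2) (Fin 2) F) := by
    ext i j
    fin_cases a <;> first | exact absurd rfl ha | skip
    all_goals fin_cases i <;> fin_cases j <;>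
      first
        | (simp [q8, genTable, qJ, Matrix.mul_apply, Fin.sum_univ_two]; done)
        | (simp [q8, genTable, qJ, Matrix.mul_apply, Fin.sum_univ_two]; linear_combination h3)
  have hhh : h * h = -1 := by
    calc h * h = g * q8 a * (g⁻¹ * g) * (q8 a * g⁻¹) := by rw [hh]; simp only [mul_assoc]
      _ = g * (q8 a * q8 a) * g⁻¹ := by rw [Matrix.nonsing_inv_mul g hu, mul_one]; simp only [mul_assoc]
      _ = -1 := by rw [haa, mul_neg, mul_one, neg_mul, Matrix.mul_nonsing_inv g hu]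
  have h00 : h 0 0 * h 0 0 + h 0 1 * h 1 0 = -1 := by
    simpa [Matrix.mul_apply, Fin.sum_univ_two] using congrFun (congrFun hhh 0) 0
  have h01 : h 0 1 * (h 0 0 + h 1 1) = 0 := by
    have := congrFun (congrFun hhh 0) 1
    simp [Matrix.mul_apply, Fin.sum_univ_two] at this
    linear_combination this
  have hsq : ∀ z : F, z * z ≠ -1 := fun z hz => by
    rcases cases_three hq z with rfl | rfl | rfl
    · simp at hz
    · exact two_ne hq (by linear_combination hz)
    · exact two_ne hq (by linear_combination hz)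
  have hq1 : h 0 1 ≠ 0 := fun h0 => hsq (h 0 0) (by rw [h0, zero_mul, add_zero] at h00; exact h00)
  have hs : h 1 1 = -h 0 0 := by
    linear_combination (mul_eq_zero.mp h01).resolve_left hq1
  have hfin : ∃ (η : F) (b : Fin 4), (η = 1 ∨ η = -1) ∧ h = η • q8 b := by
    clear hh hhh
    rcases (cases_three hq (h 0 1)).resolve_left hq1 with hb | hb <;>
      rcases cases_three hq (h 0 0) with hp | hp | hp
    · have hr : h 1 0 = -1 := by rw [hb, hp] at h00; linear_combination h00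
      exact ⟨-1, 1, Or.inr rfl, by ext i j; fin_cases i <;> fin_cases j <;> simp [q8, genTable, qJ, *]⟩
    · have hr : h 1 0 = 1 := by rw [hb, hp] at h00; linear_combination h00 - h3
      exact ⟨1, 2, Or.inl rfl, by ext i j; fin_cases i <;> fin_cases j <;> simp [q8, genTable, qJ, *]⟩
    · have hr : h 1 0 = 1 := by rw [hb, hp] at h00; linear_combination h00 - h3
      exact ⟨1, 3, Or.inl rfl, by
        ext i j; fin_cases i <;> fin_cases j <;> simp [q8, genTable, qJ, Matrix.mul_apply, Fin.sum_univ_two, *]⟩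
    · have hr : h 1 0 = 1 := by rw [hb, hp] at h00; linear_combination -h00
      exact ⟨1, 1, Or.inl rfl, by ext i j; fin_cases i <;> fin_cases j <;> simp [q8, genTable, qJ, *]⟩
    · have hr : h 1 0 = -1 := by rw [hb, hp] at h00; linear_combination h3 - h00
      exact ⟨-1, 3, Or.inr rfl, by
        ext i j; fin_cases i <;> fin_cases j <;> simp [q8, genTable, qJ, Matrix.mul_apply, Fin.sum_univ_two, *]⟩
    · have hr : h 1 0 = -1 := by rw [hb, hp] at h00; linear_combination h3 - h00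
      exact ⟨-1, 2, Or.inr rfl, by ext i j; fin_cases i <;> fin_cases j <;> simp [q8, genTable, qJ, *]⟩
  obtain ⟨η, b, hη, hb⟩ := hfin
  exact ⟨η, b, hη, by rw [← Matrix.smul_mul, ← hb, hh, mul_assoc, Matrix.nonsing_inv_mul g hu, mul_one]⟩

variable {ι : Type} [Fintype ι] [DecidableEq ι] {t : ℕ}

lemma formM_self_of_skew (h2 : (2 : F) ≠ 0) {A : Matrix ι ι F} (hA : Aᵀ = -A) (v : ι → F) :
    formM (RingEquiv.refl F) A v v = 0 := by
  have h : formM (RingEquiv.refl F) A v v = -formM (RingEquiv.refl F) A v v := by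
    simp only [formM, RingEquiv.refl_apply]
    conv_lhs => rw [dotProduct_mulVec, ← Matrix.mulVec_transpose, hA, Matrix.neg_mulVec, neg_dotProduct, dotProduct_comm]
  exact (mul_eq_zero.mp (show (2 : F) * formM (RingEquiv.refl F) A v v = 0 by linear_combination h)).resolve_left h2

/-- An invariant form with a given Gram matrix in a frame. -/
theorem exists_frame_form (h2 : (2 : F) ≠ 0) (e : ι ≃ (Fin t → Fin 2)) (B : GL ι F)
    {Gs : Fin t → GL (Fin 2) F}
    (hskew : (pureTensor fun i => (Gs i : Matrix (Fin 2) (Fin 2) F))ᵀ =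
      -pureTensor fun i => (Gs i : Matrix (Fin 2) (Fin 2) F)) :
    ∃ G : GL ι F, (∀ v, formM (RingEquiv.refl F) (G : Matrix ι ι F) v v = 0) ∧
      gramIn (RingEquiv.refl F) G e B = pureTensor fun i => (Gs i : Matrix (Fin 2) (Fin 2) F) := by
  let Γ : GL (Fin t → Fin 2) F :=
    ⟨pureTensor fun i => (Gs i : Matrix (Fin 2) (Fin 2) F),
      pureTensor fun i => (((Gs i)⁻¹ : GL (Fin 2) F) : Matrix (Fin 2) (Fin 2) F),
      by rw [pureTensor_mul, ← pureTensor_one]; congr 1; funext i; simp,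
      by rw [pureTensor_mul, ← pureTensor_one]; congr 1; funext i; simp⟩
  have hBi : IsUnit ((B⁻¹ : GL ι F) : Matrix ι ι F)ᵀ := by
    rw [Matrix.isUnit_iff_isUnit_det, Matrix.det_transpose, ← Matrix.isUnit_iff_isUnit_det]
    exact (B⁻¹).isUnit
  have hu : IsUnit (((B⁻¹ : GL ι F) : Matrix ι ι F)ᵀ * (Γ : Matrix (Fin t → Fin 2) (Fin t → Fin 2) F).submatrix e e *
      ((B⁻¹ : GL ι F) : Matrix ι ι F)) :=
    (hBi.mul (Γ.isUnit.map (Matrix.reindexAlgEquiv F F e.symm))).mul (B⁻¹).isUnit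
  refine ⟨hu.unit, fun v => ?_, ?_⟩
  · refine formM_self_of_skew h2 ?_ v
    rw [IsUnit.unit_spec, Matrix.transpose_mul, Matrix.transpose_mul, Matrix.transpose_transpose,
      Matrix.transpose_submatrix, show (Γ : Matrix (Fin t → Fin 2) (Fin t → Fin 2) F)ᵀ = -(Γ : Matrix _ _ F) from hskew]
    ext i j
    simp [Matrix.mul_apply, Finset.mul_sum, Finset.sum_mul, mul_assoc]
  · rw [gramIn, IsUnit.unit_spec, twist_refl]
    have h1 : ((B⁻¹ : GL ι F) : Matrix ι ι F) * (B : Matrix ι ι F) = 1 := Units.inv_mul B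
    rw [show (B : Matrix ι ι F)ᵀ * (((B⁻¹ : GL ι F) : Matrix ι ι F)ᵀ *
        (Γ : Matrix (Fin t → Fin 2) (Fin t → Fin 2) F).submatrix e e * ((B⁻¹ : GL ι F) : Matrix ι ι F)) *
        (B : Matrix ι ι F) = ((B : Matrix ι ι F)ᵀ * ((B⁻¹ : GL ι F) : Matrix ι ι F)ᵀ) *
        (Γ : Matrix (Fin t → Fin 2) (Fin t → Fin 2) F).submatrix e e *
        (((B⁻¹ : GL ι F) : Matrix ι ι F) * (B : Matrix ι ι F)) by simp only [mul_assoc],
      ← Matrix.transpose_mul, h1, Matrix.transpose_one, one_mul, mul_one]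
    ext x y
    simp [Γ]

lemma isometry_of_frame (e : ι ≃ (Fin t → Fin 2)) (B : GL ι F) {T : Fin t → Fin 4 → Matrix (Fin 2) (Fin 2) F}
    (hT : ∀ i, IsPauliTable (T i)) {G : GL ι F} {Gs : Fin t → Matrix (Fin 2) (Fin 2) F}
    (hG : gramIn (RingEquiv.refl F) G e B = pureTensor Gs) (hiso : ∀ i a, (T i a)ᵀ * Gs i * T i a = Gs i)
    {x : GL ι F} (hx : x ∈ pauliGroup e B T hT) :
    (x : Matrix ι ι F)ᵀ * (G : Matrix ι ι F) * (x : Matrix ι ι F) = (G : Matrix ι ι F) := by
  obtain ⟨ε, s, hε, hs⟩ := hx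
  have hεε : ε * ε = 1 := by rcases hε with rfl | rfl <;> simp
  have hk : (x : Matrix ι ι F) = framed e B (ε • pureTensor fun i => T i (s i)) := by rw [hs, map_smul]; rfl
  have hinv : (ε • pureTensor fun i => T i (s i))ᵀ * gramIn (RingEquiv.refl F) G e B *
      (ε • pureTensor fun i => T i (s i)) = gramIn (RingEquiv.refl F) G e B := by
    rw [hG, Matrix.transpose_smul, pureTensor_transpose, Matrix.smul_mul, Matrix.mul_smul, Matrix.smul_mul,
      pureTensor_mul, pureTensor_mul, smul_smul, hεε, one_smul]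
    exact congrArg pureTensor (funext fun i => hiso i (s i))
  refine formM_injective (RingEquiv.refl F) fun u v => ?_
  obtain ⟨p, hp⟩ : ∃ p, u = (B : Matrix ι ι F) *ᵥ (p ∘ e) :=
    ⟨(((B⁻¹ : GL ι F) : Matrix ι ι F) *ᵥ u) ∘ e.symm, by ext i; simp [Function.comp_assoc, Matrix.mulVec_mulVec]⟩
  obtain ⟨q, hq⟩ : ∃ q, v = (B : Matrix ι ι F) *ᵥ (q ∘ e) :=
    ⟨(((B⁻¹ : GL ι F) : Matrix ι ι F) *ᵥ v) ∘ e.symm, by ext i; simp [Function.comp_assoc, Matrix.mulVec_mulVec]⟩
  nth_rewrite 2 [← twist_refl (x : Matrix ι ι F)]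
  rw [← formM_mulVec, hp, hq, hk, framed_mulVec_comp, framed_mulVec_comp, formM_frame, formM_frame, formM_mulVec,
    twist_refl, hinv]

variable [Fintype F] {m : ℕ}

local notation "ιS" => (Fin m ⊕ Fin m)

/-- Over three elements a maximal subgroup normalising such a group is its whole normaliser. -/
theorem normalizer_case (hq : Fintype.card F = 3) (hm : 2 ≤ m) {H : Subgroup (GL ιS F)}
    (hH : IsMaximalIn (spGL m F) H) (e : ιS ≃ (Fin t → Fin 2)) (B : GL ιS F)
    {T : Fin t → Fin 4 → Matrix (Fin 2) (Fin 2) F} (hT : ∀ i, IsPauliTable (T i))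
    (hneg : ∃ x ∈ pauliGroup e B T hT, (x : Matrix ιS ιS F) * (x : Matrix ιS ιS F) = -1)
    {Gs : Fin t → Matrix (Fin 2) (Fin 2) F} {c : F}
    (hG : gramIn (RingEquiv.refl F) (sympGram m F) e B = c • pureTensor Gs)
    (hsim : ∀ i a, ∃ η : F, (η = 1 ∨ η = -1) ∧ (T i a)ᵀ * Gs i * T i a = η • Gs i)
    {Gs' : Fin t → GL (Fin 2) F}
    (hskew : (pureTensor fun i => (Gs' i : Matrix (Fin 2) (Fin 2) F))ᵀ =
      -pureTensor fun i => (Gs' i : Matrix (Fin 2) (Fin 2) F))
    (hiso : ∀ i a, (T i a)ᵀ * (Gs' i : Matrix (Fin 2) (Fin 2) F) * T i a = (Gs' i : Matrix (Fin 2) (Fin 2) F))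
    (hHn : H ≤ subgroupNormalizer (pauliGroup e B T hT)) :
    ∃ (p : ℕ) (R : Subgroup (GL ιS F)), p.Prime ∧ Odd p ∧ Fintype.card F = p ∧ IsSymplecticTypeGroup 2 R ∧
      ActsAbsolutelyIrreducibly (matrixSet R) ∧ R ≤ similarityGroup (sympForm m F) ∧
      Nat.card R = 2 ^ (1 + 2 * t) ∧ Nat.card (Subgroup.center R) = 2 ∧ IsOfMinusType t R ∧
      H = subgroupNormalizer R ⊓ spGL m F := by
  haveI : Nonempty ιS := ⟨Sum.inl ⟨0, by omega⟩⟩
  haveI : Fact (Nat.Prime 3) := ⟨Nat.prime_three⟩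
  haveI : CharP F 3 := charP_of_card_eq_prime (by rw [hq])
  have h2 := two_ne hq
  obtain ⟨G', halt, hG'⟩ := exists_frame_form h2 e B hskew
  have hR := isSymplecticType hT h2 hneg
  have hirr := absIrred_of_span_top (spanAlg_pauliGroup (e := e) (B := B) hT)
  have hsim' : pauliGroup e B T hT ≤ similarityGroup (sympForm m F) := by
    rw [sympForm_eq]; exact le_similarityGroup_pauli hT hG hsim
  refine ⟨3, pauliGroup e B T hT, Nat.prime_three, by decide, hq, hR, hirr, hsim', natCard_pauliGroup hT h2,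
    natCard_center hT h2, isOfMinusType hT h2 halt fun x hx => isometry_of_frame e B hT hG' hiso hx, ?_⟩
  exact eq_inf_of_maximal_le hH hHn
    (sp_not_le_subgroupNormalizer hm (p := 3) (by decide) hR hirr hsim' (natCard_center hT h2)
      (natCard_pauliGroup hT h2))

end Cfsg.Agent.Lib.SympQuat
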