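import Cfsg.Agent.Lib.Aschbacher.Symplectic
import Cfsg.Agent.Lib.MaxClass.Degree

/-!
Groups of symplectic type spanned by tensor products of tables of four `2 × 2` matrices that multiply up to sign.
-/

set_option autoImplicit false

namespace Cfsg.Agent.Lib.SympQuat

open Cfsg Cfsg.Geo Matrix Cfsg.Agent.Lib.Aschbacher

variable {ι : Type} [Fintype ι] [DecidableEq ι] {F : Type*} [Field F]

/-- Four matrices multiplying up to sign and spanning the `2 × 2` matrices. -/
structure IsPauliTable (T : Fin 4 → Matrix (Fin 2) (Fin 2) F) : Prop where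
  one : T 0 = 1
  mul : ∀ a b, ∃ (ε : F) (c : Fin 4), (ε = 1 ∨ ε = -1) ∧ T a * T b = ε • T c
  sq : ∀ a, T a * T a = 1 ∨ T a * T a = -1
  comm : ∀ a b, T a * T b = T b * T a ∨ T a * T b = -(T b * T a)
  span : ∀ M : Matrix (Fin 2) (Fin 2) F, ∃ c : Fin 4 → F, M = ∑ a, c a • T a

variable {t : ℕ} (e : ι ≃ (Fin t → Fin 2)) (B : GL ι F) (T : Fin t → Fin 4 → Matrix (Fin 2) (Fin 2) F)

/-- The basis element belonging to an index. -/
def pauli (s : Fin t → Fin 4) : Matrix ι ι F := framed e B (pureTensor fun i => T i (s i))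

lemma pauli_zero (hT : ∀ i, IsPauliTable (T i)) : pauli e B T (fun _ => 0) = 1 := by
  rw [pauli, show (fun i => T i ((fun _ : Fin t => (0 : Fin 4)) i)) = 1 from funext fun i => (hT i).one,
    pureTensor_one, map_one]

lemma prod_sign {ε : Fin t → F} (hε : ∀ i, ε i = 1 ∨ ε i = -1) : (∏ i, ε i) = 1 ∨ (∏ i, ε i) = -1 := by
  refine Finset.prod_induction _ (fun x => x = 1 ∨ x = -1) ?_ (Or.inl rfl) fun i _ => hε i
  rintro a b (rfl | rfl) (rfl | rfl) <;> simp

lemma pauli_mul (hT : ∀ i, IsPauliTable (T i)) (s s' : Fin t → Fin 4) :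
    ∃ (ε : F) (u : Fin t → Fin 4), (ε = 1 ∨ ε = -1) ∧ pauli e B T s * pauli e B T s' = ε • pauli e B T u := by
  choose ε u hε hu using fun i => (hT i).mul (s i) (s' i)
  refine ⟨∏ i, ε i, u, prod_sign hε, ?_⟩
  rw [pauli, pauli, pauli, ← map_mul, pureTensor_mul, ← map_smul, ← pureTensor_smul_family]
  exact congrArg _ (congrArg _ (funext hu))

lemma pauli_sq (hT : ∀ i, IsPauliTable (T i)) (s : Fin t → Fin 4) :
    pauli e B T s * pauli e B T s = 1 ∨ pauli e B T s * pauli e B T s = -1 := by
  have h : ∀ i, ∃ ε : F, (ε = 1 ∨ ε = -1) ∧ T i (s i) * T i (s i) = ε • (1 : Matrix (Fin 2) (Fin 2) F) := fun i => by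
    rcases (hT i).sq (s i) with h | h
    · exact ⟨1, Or.inl rfl, by rw [h, one_smul]⟩
    · exact ⟨-1, Or.inr rfl, by rw [h, neg_one_smul]⟩
  choose ε hε hu using h
  have h' : pauli e B T s * pauli e B T s = (∏ i, ε i) • (1 : Matrix ι ι F) := by
    rw [pauli, ← map_mul, pureTensor_mul,
      show ((fun i => T i (s i)) * fun i => T i (s i)) = fun i => ε i • (1 : Matrix (Fin 2) (Fin 2) F) from funext hu,
      pureTensor_smul_family, show (fun _ : Fin t => (1 : Matrix (Fin 2) (Fin 2) F)) = 1 from rfl, pureTensor_one,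
      map_smul, map_one]
  rcases prod_sign hε with he | he <;> rw [he] at h'
  · exact Or.inl (by rw [h', one_smul])
  · exact Or.inr (by rw [h', neg_one_smul])

lemma pauli_comm (hT : ∀ i, IsPauliTable (T i)) (s s' : Fin t → Fin 4) :
    pauli e B T s * pauli e B T s' = pauli e B T s' * pauli e B T s ∨
      pauli e B T s * pauli e B T s' = -(pauli e B T s' * pauli e B T s) := by
  have h : ∀ i, ∃ ε : F, (ε = 1 ∨ ε = -1) ∧ T i (s i) * T i (s' i) = ε • (T i (s' i) * T i (s i)) := fun i => by
    rcases (hT i).comm (s i) (s' i) with h | h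
    · exact ⟨1, Or.inl rfl, by rw [one_smul]; exact h⟩
    · exact ⟨-1, Or.inr rfl, by rw [neg_one_smul]; exact h⟩
  choose ε hε hu using h
  have h' : pauli e B T s * pauli e B T s' = (∏ i, ε i) • (pauli e B T s' * pauli e B T s) := by
    rw [pauli, pauli, ← map_mul, ← map_mul, pureTensor_mul, pureTensor_mul, ← map_smul, ← pureTensor_smul_family]
    exact congrArg _ (congrArg _ (funext hu))
  rcases prod_sign hε with he | he <;> rw [he] at h'
  · exact Or.inl (by rw [h', one_smul])
  · exact Or.inr (by rw [h', neg_one_smul])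

lemma pauli_span (hT : ∀ i, IsPauliTable (T i)) (M : Matrix ι ι F) :
    M ∈ Submodule.span F (Set.range (pauli e B T)) := by
  classical
  have hsingle : ∀ x y, framed e B (Matrix.single x y (1 : F)) ∈ Submodule.span F (Set.range (pauli e B T)) := by
    intro x y
    choose c hc using fun i => (hT i).span (Matrix.single (x i) (y i) (1 : F))
    have h : (Matrix.single x y (1 : F)) =
        ∑ s : Fin t → Fin 4, (∏ i, c i (s i)) • pureTensor (fun i => T i (s i)) := by
      ext p q
      have h1 : ∀ i, Matrix.single (x i) (y i) (1 : F) (p i) (q i) = ∑ a, c i a * T i a (p i) (q i) := fun i => by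
        rw [hc i, Matrix.sum_apply]; rfl
      rw [Matrix.sum_apply]
      simp only [Matrix.smul_apply, smul_eq_mul, pureTensor, Matrix.of_apply, ← Finset.prod_mul_distrib]
      rw [← Fintype.prod_sum fun i a => c i a * T i a (p i) (q i), ← Finset.prod_congr rfl fun i _ => h1 i]
      simp only [Matrix.single, Matrix.of_apply]
      by_cases hp : x = p ∧ y = q
      · obtain ⟨rfl, rfl⟩ := hp
        simp
      · rw [if_neg hp]
        have : ∃ i, ¬ (x i = p i ∧ y i = q i) := by
          by_contra hh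
          push Not at hh
          exact hp ⟨funext fun i => (hh i).1, funext fun i => (hh i).2⟩
        obtain ⟨i, hi⟩ := this
        exact (Finset.prod_eq_zero (Finset.mem_univ i) (if_neg hi)).symm
    rw [h, map_sum]
    refine Submodule.sum_mem _ fun s _ => ?_
    rw [map_smul]
    exact Submodule.smul_mem _ _ (Submodule.subset_span ⟨s, rfl⟩)
  have hM := (framed e B).apply_symm_apply M
  rw [← hM, Matrix.matrix_eq_sum_single ((framed e B).symm M)]
  simp only [map_sum]
  refine Submodule.sum_mem _ fun x _ => Submodule.sum_mem _ fun y _ => ?_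
  rw [show Matrix.single x y ((framed e B).symm M x y) =
    ((framed e B).symm M x y) • Matrix.single x y (1 : F) by simp, map_smul]
  exact Submodule.smul_mem _ _ (hsingle x y)

lemma pauli_indep (hT : ∀ i, IsPauliTable (T i)) : LinearIndependent F (pauli e B T) := by
  refine linearIndependent_of_top_le_span_of_card_eq_finrank (fun M _ => pauli_span e B T hT M) ?_
  rw [Module.finrank_matrix, Module.finrank_self, mul_one, Fintype.card_fun, Fintype.card_congr e,
    Fintype.card_fun, Fintype.card_fin, Fintype.card_fin, Fintype.card_fin, ← mul_pow]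
  norm_num

lemma pauli_ne_zero (hT : ∀ i, IsPauliTable (T i)) (s : Fin t → Fin 4) : pauli e B T s ≠ 0 :=
  (pauli_indep e B T hT).ne_zero s

/-- The signed basis elements. -/
def pauliSet : Set (GL ι F) :=
  {g | ∃ (ε : F) (s : Fin t → Fin 4), (ε = 1 ∨ ε = -1) ∧ (g : Matrix ι ι F) = ε • pauli e B T s}

/-- The group of signed basis elements. -/
def pauliGroup (hT : ∀ i, IsPauliTable (T i)) : Subgroup (GL ι F) where
  carrier := pauliSet e B T
  one_mem' := ⟨1, fun _ => 0, Or.inl rfl, by rw [pauli_zero e B T hT, one_smul, Units.val_one]⟩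
  mul_mem' {g h} hg hh := by
    obtain ⟨ε, s, hε, hg⟩ := hg
    obtain ⟨δ, s', hδ, hh⟩ := hh
    obtain ⟨η, u, hη, hu⟩ := pauli_mul e B T hT s s'
    refine ⟨ε * δ * η, u, ?_, ?_⟩
    · rcases hε with rfl | rfl <;> rcases hδ with rfl | rfl <;> rcases hη with rfl | rfl <;> simp
    · rw [Units.val_mul, hg, hh, Matrix.smul_mul, Matrix.mul_smul, hu, smul_smul, smul_smul]
  inv_mem' {g} hg := by
    obtain ⟨ε, s, hε, hg⟩ := hg
    have hεε : ε * ε = 1 := by rcases hε with rfl | rfl <;> simp
    obtain ⟨η, hη, hsq⟩ : ∃ η : F, (η = 1 ∨ η = -1) ∧ pauli e B T s * pauli e B T s = η • (1 : Matrix ι ι F) := by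
      rcases pauli_sq e B T hT s with h | h
      · exact ⟨1, Or.inl rfl, by rw [h, one_smul]⟩
      · exact ⟨-1, Or.inr rfl, by rw [h, neg_one_smul]⟩
    have hηη : η * η = 1 := by rcases hη with rfl | rfl <;> simp
    refine ⟨η * ε, s, by rcases hε with rfl | rfl <;> rcases hη with rfl | rfl <;> simp, ?_⟩
    apply g.isUnit.mul_left_cancel
    rw [Units.mul_inv, hg, Matrix.smul_mul, Matrix.mul_smul, hsq, smul_smul, smul_smul,
      show ε * (η * ε) * η = (ε * ε) * (η * η) by ring, hεε, hηη, one_mul, one_smul]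

variable {e B T}

lemma exists_mem (hT : ∀ i, IsPauliTable (T i)) (s : Fin t → Fin 4) :
    ∃ g : GL ι F, g ∈ pauliGroup e B T hT ∧ (g : Matrix ι ι F) = pauli e B T s := by
  have hu : IsUnit (pauli e B T s) := by
    rcases pauli_sq e B T hT s with h | h
    · exact IsUnit.of_mul_eq_one _ h
    · exact IsUnit.of_mul_eq_one (-pauli e B T s) (by rw [mul_neg, h, neg_neg])
  exact ⟨hu.unit, ⟨1, s, Or.inl rfl, by rw [one_smul]; rfl⟩, rfl⟩

lemma sign_pauli_injective (hT : ∀ i, IsPauliTable (T i)) {ε δ : F} (hε : ε = 1 ∨ ε = -1)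
    {s u : Fin t → Fin 4} (h : ε • pauli e B T s = δ • pauli e B T u) : s = u ∧ ε = δ := by
  have hε0 : ε ≠ 0 := by rcases hε with rfl | rfl <;> simp
  have hsu : s = u := by
    by_contra hne
    have h1 := Fintype.linearIndependent_iff.mp (pauli_indep e B T hT)
      (fun x => (if x = s then ε else 0) - (if x = u then δ else 0))
      (by simp [sub_smul, Finset.sum_sub_distrib, ite_smul, h]) s
    simp [hne, hε0] at h1
  subst hsu
  exact ⟨rfl, smul_left_injective F (pauli_ne_zero e B T hT s) h⟩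

theorem natCard_pauliGroup (hT : ∀ i, IsPauliTable (T i)) (h2 : (2 : F) ≠ 0) :
    Nat.card (pauliGroup e B T hT) = 2 ^ (1 + 2 * t) := by
  classical
  have hsign : ∀ b : Bool, (if b then (-1 : F) else 1) = 1 ∨ (if b then (-1 : F) else 1) = -1 := fun b => by
    cases b <;> simp
  choose g hg hgval using fun p : Bool × (Fin t → Fin 4) => show ∃ g : GL ι F, g ∈ pauliGroup e B T hT ∧
      (g : Matrix ι ι F) = (if p.1 then (-1 : F) else 1) • pauli e B T p.2 by
    obtain ⟨g, -, hgv⟩ := exists_mem (e := e) (B := B) hT p.2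
    cases p.1
    · exact ⟨g, ⟨1, p.2, Or.inl rfl, by rw [one_smul, hgv]⟩, by simp [hgv]⟩
    · exact ⟨-g, ⟨-1, p.2, Or.inr rfl, by simp [hgv]⟩, by simp [hgv]⟩
  let f : Bool × (Fin t → Fin 4) → pauliGroup e B T hT := fun p => ⟨g p, hg p⟩
  have hbij : Function.Bijective f := by
    constructor
    · intro p q hpq
      have h : (g p : Matrix ι ι F) = (g q : Matrix ι ι F) :=
        congrArg (fun x : pauliGroup e B T hT => ((x : GL ι F) : Matrix ι ι F)) hpq
      rw [hgval, hgval] at h
      obtain ⟨h1, h2'⟩ := sign_pauli_injective hT (hsign _) h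
      have hne : (-1 : F) ≠ 1 := fun h0 => h2 (by linear_combination -h0)
      refine Prod.ext ?_ h1
      cases hp : p.1 <;> cases hq : q.1 <;> simp [hp, hq, hne, hne.symm] at h2' ⊢
    · rintro ⟨x, ε, s, hε, hx⟩
      rcases hε with rfl | rfl
      · exact ⟨(false, s), Subtype.ext (Units.ext (by simp [f, hgval, hx]))⟩
      · exact ⟨(true, s), Subtype.ext (Units.ext (by simp [f, hgval, hx]))⟩
  rw [← Nat.card_eq_of_bijective f hbij, Nat.card_prod, Nat.card_fun, Nat.card_fin, Nat.card_eq_fintype_card,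
    Nat.card_eq_fintype_card, Fintype.card_bool, Fintype.card_fin, pow_add, pow_mul]
  norm_num

theorem spanAlg_pauliGroup (hT : ∀ i, IsPauliTable (T i)) : spanAlg (pauliGroup e B T hT) = ⊤ := by
  refine top_unique fun M _ => ?_
  have h : Submodule.span F (Set.range (pauli e B T)) ≤
      Subalgebra.toSubmodule (spanAlg (pauliGroup e B T hT)) := by
    refine Submodule.span_le.mpr ?_
    rintro _ ⟨s, rfl⟩
    obtain ⟨g, hg, hgv⟩ := exists_mem (e := e) (B := B) hT s
    rw [← hgv]
    exact coe_mem_spanAlg hg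
  exact h (pauli_span e B T hT M)

lemma central_eq (hT : ∀ i, IsPauliTable (T i)) {g : GL ι F} (hg : g ∈ pauliGroup e B T hT)
    (hsc : g ∈ scalars ι F) : (g : Matrix ι ι F) = 1 ∨ (g : Matrix ι ι F) = -1 := by
  obtain ⟨c, hc⟩ := (mem_scalars_iff g).mp hsc
  obtain ⟨ε, s, hε, hs⟩ := hg
  have h : ε • pauli e B T s = (c : F) • pauli e B T (fun _ => 0) := by rw [← hs, hc, pauli_zero e B T hT]
  obtain ⟨rfl, hεc⟩ := sign_pauli_injective hT hε h
  rw [hc, ← hεc]
  rcases hε with rfl | rfl
  · exact Or.inl (one_smul _ _)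
  · exact Or.inr (neg_one_smul _ _)

lemma natCard_center (hT : ∀ i, IsPauliTable (T i)) (h2 : (2 : F) ≠ 0) [Nonempty ι] :
    Nat.card (Subgroup.center (pauliGroup e B T hT)) = 2 := by
  classical
  have hirr := absIrred_of_span_top (spanAlg_pauliGroup (e := e) (B := B) hT)
  have hne : (1 : GL ι F) ≠ -1 := fun h => by
    have h0 := congrFun (congrFun (congrArg (fun g : GL ι F => (g : Matrix ι ι F)) h)
      (Classical.arbitrary ι)) (Classical.arbitrary ι)
    simp at h0
    exact h2 (by linear_combination h0)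
  have hmem : (-1 : GL ι F) ∈ pauliGroup e B T hT :=
    ⟨-1, fun _ => 0, Or.inr rfl, by rw [pauli_zero e B T hT]; simp⟩
  rw [Nat.card_eq_two_iff]
  refine ⟨1, ⟨⟨-1, hmem⟩, MaxClass.scalar_mem_center ((mem_scalars_iff _).mpr ⟨-1, by simp⟩)⟩, ?_, ?_⟩
  · intro h
    exact hne (congrArg (fun x : Subgroup.center (pauliGroup e B T hT) => ((x : pauliGroup e B T hT) : GL ι F)) h)
  · refine Set.eq_univ_of_forall fun x => ?_
    rcases central_eq hT (x : pauliGroup e B T hT).2 (MaxClass.center_mem_scalars hirr x.2) with h | h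
    · left; exact Subtype.ext (Subtype.ext (Units.ext h))
    · right; exact Subtype.ext (Subtype.ext (Units.ext (h.trans (by simp))))

/-- The conjugation by `1 + x`, for `x` squaring to minus one. -/
lemma exists_twistAut (hT : ∀ i, IsPauliTable (T i)) (h2 : (2 : F) ≠ 0) {x : GL ι F}
    (hx : x ∈ pauliGroup e B T hT) (hxx : (x : Matrix ι ι F) * (x : Matrix ι ι F) = -1) :
    ∃ φ : pauliGroup e B T hT ≃* pauliGroup e B T hT, ∀ r : pauliGroup e B T hT,
      (x : Matrix ι ι F) * ((r : GL ι F) : Matrix ι ι F) = -(((r : GL ι F) : Matrix ι ι F) * (x : Matrix ι ι F)) →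
        (φ r : GL ι F) = x * (r : GL ι F) := by
  classical
  have h22 : (2 : F)⁻¹ * 2 = 1 := inv_mul_cancel₀ h2
  let u : GL ι F := ⟨1 + (x : Matrix ι ι F), (2 : F)⁻¹ • (1 - (x : Matrix ι ι F)),
    by rw [Matrix.mul_smul, show (1 + (x : Matrix ι ι F)) * (1 - (x : Matrix ι ι F)) = (2 : F) • 1 by
        rw [mul_sub, mul_one, add_mul, one_mul, hxx, two_smul]; abel, smul_smul, h22, one_smul],
    by rw [Matrix.smul_mul, show (1 - (x : Matrix ι ι F)) * (1 + (x : Matrix ι ι F)) = (2 : F) • 1 by
        rw [sub_mul, one_mul, mul_add, mul_one, hxx, two_smul]; abel, smul_smul, h22, one_smul]⟩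
  have hcases : ∀ r ∈ pauliGroup e B T hT, u * r * u⁻¹ = r ∨
      ((x : Matrix ι ι F) * (r : Matrix ι ι F) = -((r : Matrix ι ι F) * (x : Matrix ι ι F)) ∧
        u * r * u⁻¹ = x * r) := by
    intro r hr
    obtain ⟨ε, s, -, hs⟩ := hr
    obtain ⟨δ, s', -, hs'⟩ := hx
    rcases pauli_comm e B T hT s' s with h | h
    · left
      rw [mul_inv_eq_iff_eq_mul]
      apply Units.ext
      have hc : (x : Matrix ι ι F) * (r : Matrix ι ι F) = (r : Matrix ι ι F) * (x : Matrix ι ι F) := by
        rw [hs, hs', Matrix.smul_mul, Matrix.smul_mul, Matrix.mul_smul, Matrix.mul_smul, smul_smul, smul_smul, h,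
          mul_comm]
      show (1 + (x : Matrix ι ι F)) * (r : Matrix ι ι F) = (r : Matrix ι ι F) * (1 + (x : Matrix ι ι F))
      rw [add_mul, mul_add, one_mul, mul_one, hc]
    · right
      have hc : (x : Matrix ι ι F) * (r : Matrix ι ι F) = -((r : Matrix ι ι F) * (x : Matrix ι ι F)) := by
        rw [hs, hs', Matrix.smul_mul, Matrix.smul_mul, Matrix.mul_smul, Matrix.mul_smul, smul_smul, smul_smul, h,
          mul_comm, smul_neg]
      refine ⟨hc, ?_⟩
      rw [mul_inv_eq_iff_eq_mul]
      apply Units.ext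
      show (1 + (x : Matrix ι ι F)) * (r : Matrix ι ι F) =
        (x : Matrix ι ι F) * (r : Matrix ι ι F) * (1 + (x : Matrix ι ι F))
      have h3 : (x : Matrix ι ι F) * (r : Matrix ι ι F) * (x : Matrix ι ι F) = (r : Matrix ι ι F) := by
        rw [hc, neg_mul, mul_assoc, hxx, mul_neg, mul_one, neg_neg]
      rw [add_mul, one_mul, mul_add, mul_one, h3, add_comm]
  have hmem : ∀ r ∈ pauliGroup e B T hT, u * r * u⁻¹ ∈ pauliGroup e B T hT := fun r hr => by
    rcases hcases r hr with h | ⟨-, h⟩ <;> rw [h]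
    · exact hr
    · exact mul_mem hx hr
  let f : pauliGroup e B T hT →* pauliGroup e B T hT :=
    { toFun := fun r => ⟨u * r * u⁻¹, hmem r r.2⟩
      map_one' := Subtype.ext (by simp)
      map_mul' := fun a b => Subtype.ext (by
        show u * ((a : GL ι F) * (b : GL ι F)) * u⁻¹ = (u * (a : GL ι F) * u⁻¹) * (u * (b : GL ι F) * u⁻¹)
        group) }
  haveI : Finite (pauliGroup e B T hT) := Nat.finite_of_card_ne_zero (by rw [natCard_pauliGroup hT h2]; positivity)
  have hinj : Function.Injective f := fun a b h => Subtype.ext (by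
    have := congrArg Subtype.val h
    exact mul_left_cancel (mul_right_cancel (this : u * (a : GL ι F) * u⁻¹ = u * (b : GL ι F) * u⁻¹)))
  refine ⟨MulEquiv.ofBijective f ⟨hinj, Finite.injective_iff_surjective.mp hinj⟩, fun r hr => ?_⟩
  rcases hcases r r.2 with h | ⟨-, h⟩
  · exfalso
    rw [mul_inv_eq_iff_eq_mul] at h
    have h' : (1 + (x : Matrix ι ι F)) * ((r : GL ι F) : Matrix ι ι F) =
        ((r : GL ι F) : Matrix ι ι F) * (1 + (x : Matrix ι ι F)) := congrArg Units.val h
    rw [add_mul, mul_add, one_mul, mul_one, hr, add_right_inj] at h'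
    have h4 : (2 : F) • (((r : GL ι F) : Matrix ι ι F) * (x : Matrix ι ι F)) = 0 := by
      rw [two_smul]
      nth_rewrite 1 [← h']
      exact neg_add_cancel _
    haveI : Nonempty (Fin t → Fin 4) := ⟨fun _ => 0⟩
    have h5 := (smul_eq_zero.mp h4).resolve_left h2
    rw [← Units.val_mul] at h5
    rcases isEmpty_or_nonempty ι with hι | hι
    · exact pauli_ne_zero e B T hT (fun _ => 0) (Matrix.ext fun i => isEmptyElim i)
    · exact ((r : GL ι F) * x).ne_zero h5
  · exact h

/-- The group is of symplectic type. -/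
theorem isSymplecticType (hT : ∀ i, IsPauliTable (T i)) (h2 : (2 : F) ≠ 0) [Nonempty ι]
    (hneg : ∃ x ∈ pauliGroup e B T hT, (x : Matrix ι ι F) * (x : Matrix ι ι F) = -1) :
    IsSymplecticTypeGroup 2 (pauliGroup e B T hT) := by
  classical
  have hirr := absIrred_of_span_top (spanAlg_pauliGroup (e := e) (B := B) hT)
  haveI : Finite (pauliGroup e B T hT) := Nat.finite_of_card_ne_zero (by rw [natCard_pauliGroup hT h2]; positivity)
  have hsq : ∀ x ∈ pauliGroup e B T hT,
      (x : Matrix ι ι F) * (x : Matrix ι ι F) = 1 ∨ (x : Matrix ι ι F) * (x : Matrix ι ι F) = -1 := by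
    rintro x ⟨ε, s, hε, hs⟩
    have hεε : ε * ε = 1 := by rcases hε with rfl | rfl <;> simp
    rw [hs, Matrix.smul_mul, Matrix.mul_smul, smul_smul, hεε, one_smul]
    exact pauli_sq e B T hT s
  have hne1 : (-1 : Matrix ι ι F) ≠ 1 := fun h => by
    have h0 := congrFun (congrFun h (Classical.arbitrary ι)) (Classical.arbitrary ι)
    simp at h0
    exact h2 (by linear_combination -h0)
  refine ⟨Nat.prime_two, IsPGroup.of_card (natCard_pauliGroup hT h2), fun A hA hAc => ?_, ?_⟩
  swap
  · obtain ⟨x, hx, hxx⟩ := hneg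
    show Monoid.exponent (pauliGroup e B T hT) = 4
    have hdvd : Monoid.exponent (pauliGroup e B T hT) ∣ 4 := by
      refine Monoid.exponent_dvd_of_forall_pow_eq_one fun g => Subtype.ext (Units.ext ?_)
      rw [Subgroup.coe_pow, Units.val_pow_eq_pow_val, show 4 = 2 * 2 from rfl, pow_mul, pow_two, pow_two]
      rcases hsq g g.2 with h | h <;> rw [h] <;> simp
    obtain ⟨i, hi, heq⟩ := (Nat.dvd_prime_pow Nat.prime_two).mp (show _ ∣ 2 ^ 2 from hdvd)
    rw [heq]
    by_contra hlt
    have hi1 : i ≤ 1 := by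
      by_contra hi1
      exact hlt (by rw [show i = 2 by omega]; norm_num)
    have h2pow : (⟨x, hx⟩ : pauliGroup e B T hT) ^ 2 = 1 := by
      have h := Monoid.pow_exponent_eq_one (⟨x, hx⟩ : pauliGroup e B T hT)
      rw [heq] at h
      interval_cases i
      · rw [pow_zero, pow_one] at h; rw [h, one_pow]
      · simpa using h
    have := congrArg (fun g : pauliGroup e B T hT => ((g : GL ι F) : Matrix ι ι F)) h2pow
    simp [pow_two, hxx, hne1] at this
  haveI := hAc
  have hcentral : ∀ a : pauliGroup e B T hT,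
      (∀ r : pauliGroup e B T hT, Commute ((a : GL ι F) : Matrix ι ι F) ((r : GL ι F) : Matrix ι ι F)) →
        ((a : GL ι F) : Matrix ι ι F) = 1 ∨ ((a : GL ι F) : Matrix ι ι F) = -1 := fun a h =>
    central_eq hT a.2 (MaxClass.center_mem_scalars hirr (x := a)
      (Subgroup.mem_center_iff.mpr fun r => Subtype.ext (Units.ext (h r).symm)))
  -- non-central members of `A` square to minus one
  have hsqA : ∀ a ∈ A, ¬ (((a : GL ι F) : Matrix ι ι F) = 1 ∨ ((a : GL ι F) : Matrix ι ι F) = -1) →
      ((a : GL ι F) : Matrix ι ι F) * ((a : GL ι F) : Matrix ι ι F) = -1 := by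
    intro a ha hnc
    refine (hsq a a.2).resolve_left fun haa => ?_
    obtain ⟨y, hy⟩ := not_forall.mp fun h => hnc (hcentral a h)
    have hanti : ((a : GL ι F) : Matrix ι ι F) * ((y : GL ι F) : Matrix ι ι F) =
        -(((y : GL ι F) : Matrix ι ι F) * ((a : GL ι F) : Matrix ι ι F)) := by
      obtain ⟨ε, s, -, hs⟩ := a.2
      obtain ⟨δ, s', -, hs'⟩ := y.2
      rcases pauli_comm e B T hT s s' with h | h
      · exact absurd (show _ = _ by
          rw [hs, hs', Matrix.smul_mul, Matrix.smul_mul, Matrix.mul_smul, Matrix.mul_smul, smul_smul, smul_smul, h,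
            mul_comm]) hy
      · rw [hs, hs', Matrix.smul_mul, Matrix.smul_mul, Matrix.mul_smul, Matrix.mul_smul, smul_smul, smul_smul, h,
          mul_comm, smul_neg]
    obtain ⟨x, hx, hxx, hxa⟩ : ∃ x ∈ pauliGroup e B T hT, (x : Matrix ι ι F) * (x : Matrix ι ι F) = -1 ∧
        (x : Matrix ι ι F) * ((a : GL ι F) : Matrix ι ι F) = -(((a : GL ι F) : Matrix ι ι F) * (x : Matrix ι ι F)) := by
      rcases hsq y y.2 with hyy | hyy
      · refine ⟨(a : GL ι F) * (y : GL ι F), mul_mem a.2 y.2, ?_, ?_⟩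
        · rw [Units.val_mul]
          nth_rewrite 1 [hanti]
          rw [neg_mul, mul_assoc, ← mul_assoc ((a : GL ι F) : Matrix ι ι F), haa, one_mul, hyy]
        · rw [Units.val_mul, hanti, neg_mul, mul_assoc, haa, mul_one, mul_neg,
            ← mul_assoc, hanti, neg_mul, mul_assoc, haa, mul_one, neg_neg]
      · exact ⟨y, y.2, hyy, by rw [hanti, neg_neg]⟩
    obtain ⟨φ, hφ⟩ := exists_twistAut hT h2 hx hxx
    have hφa : φ a ∈ A := by
      have : a ∈ A.comap φ.toMonoidHom := by rw [hA.fixed φ]; exact ha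
      exact this
    have hcomm : a * φ a = φ a * a := congrArg Subtype.val
      (mul_comm' (⟨a, ha⟩ : A) ⟨φ a, hφa⟩)
    have h := congrArg (fun g : pauliGroup e B T hT => ((g : GL ι F) : Matrix ι ι F)) hcomm
    simp only [Subgroup.coe_mul, Units.val_mul, hφ a hxa] at h
    have hax : ((a : GL ι F) : Matrix ι ι F) * (x : Matrix ι ι F) =
        -((x : Matrix ι ι F) * ((a : GL ι F) : Matrix ι ι F)) := by
      rw [hxa, neg_neg]
    rw [mul_assoc, haa, mul_one, ← mul_assoc, hax, neg_mul, mul_assoc, haa, mul_one] at h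
    have h4 : (2 : F) • (x : Matrix ι ι F) = 0 := by
      rw [two_smul]
      nth_rewrite 2 [← h]
      exact add_neg_cancel _
    exact x.ne_zero ((smul_eq_zero.mp h4).resolve_left h2)
  by_cases hall : ∀ a ∈ A, ((a : GL ι F) : Matrix ι ι F) = 1 ∨ ((a : GL ι F) : Matrix ι ι F) = -1
  · haveI : Fact (Nat.Prime 2) := ⟨Nat.prime_two⟩
    haveI : IsCyclic (Subgroup.center (pauliGroup e B T hT)) := isCyclic_of_prime_card (natCard_center hT h2)
    have hle : A ≤ Subgroup.center (pauliGroup e B T hT) := fun a ha => Subgroup.mem_center_iff.mpr fun r =>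
      Subtype.ext (Units.ext (by rcases hall a ha with h | h <;> simp [h]))
    exact isCyclic_of_injective (Subgroup.inclusion hle) (Subgroup.inclusion_injective hle)
  push Not at hall
  obtain ⟨a, ha, ha1, ha2⟩ := hall
  have haa := hsqA a ha (by rintro (h | h); exacts [ha1 h, ha2 h])
  have hle : A ≤ Subgroup.zpowers a := by
    intro b hb
    have hneg1 : ∀ c : pauliGroup e B T hT, ((c : GL ι F) : Matrix ι ι F) = -1 → c = a ^ 2 := fun c hc =>
      Subtype.ext (Units.ext (by rw [hc, Subgroup.coe_pow, Units.val_pow_eq_pow_val, pow_two, haa]))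
    have hone : ∀ c : pauliGroup e B T hT, ((c : GL ι F) : Matrix ι ι F) = 1 → c = 1 := fun c hc =>
      Subtype.ext (Units.ext hc)
    by_cases hbc : ((b : GL ι F) : Matrix ι ι F) = 1 ∨ ((b : GL ι F) : Matrix ι ι F) = -1
    · rcases hbc with h | h
      · rw [hone b h]; exact one_mem _
      · rw [hneg1 b h]; exact pow_mem (Subgroup.mem_zpowers a) 2
    have hbb := hsqA b hb hbc
    have hab : ((a * b : pauliGroup e B T hT) : GL ι F).val = 1 ∨ ((a * b : pauliGroup e B T hT) : GL ι F).val = -1 := by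
      by_contra hnc
      have h := hsqA (a * b) (mul_mem ha hb) hnc
      have hcomm : ((b : GL ι F) : Matrix ι ι F) * ((a : GL ι F) : Matrix ι ι F) =
          ((a : GL ι F) : Matrix ι ι F) * ((b : GL ι F) : Matrix ι ι F) :=
        congrArg (fun g : A => (((g : pauliGroup e B T hT) : GL ι F) : Matrix ι ι F))
          (mul_comm' (⟨b, hb⟩ : A) ⟨a, ha⟩)
      rw [Subgroup.coe_mul, Units.val_mul, mul_assoc, ← mul_assoc ((b : GL ι F) : Matrix ι ι F), hcomm, mul_assoc,
        hbb, mul_neg, mul_one, mul_neg, haa, neg_neg] at h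
      exact hne1 h.symm
    rcases hab with h | h
    · rw [show b = a⁻¹ from eq_inv_of_mul_eq_one_right (hone _ h)]
      exact inv_mem (Subgroup.mem_zpowers a)
    · rw [show b = a from mul_left_cancel ((hneg1 _ h).trans (pow_two a))]
      exact Subgroup.mem_zpowers a
  exact isCyclic_of_injective (Subgroup.inclusion hle) (Subgroup.inclusion_injective hle)

/-- Commuting self-adjoint involutions of a symplectic space span at most half as many dimensions. -/
theorem two_mul_finrank_le_rank {G : GL ι F} (halt : ∀ v, formM (RingEquiv.refl F) (G : Matrix ι ι F) v v = 0)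
    (h2 : (2 : F) ≠ 0) {S : Set (Matrix ι ι F)} (hsq : ∀ a ∈ S, a * a = 1)
    (hcomm : ∀ a ∈ S, ∀ b ∈ S, a * b = b * a)
    (hadj : ∀ a ∈ S, ∀ u v, formM (RingEquiv.refl F) (G : Matrix ι ι F) (a *ᵥ u) v =
      formM (RingEquiv.refl F) (G : Matrix ι ι F) u (a *ᵥ v)) :
    ∀ (d : ℕ) (E : Matrix ι ι F), E * E = E → (∀ a ∈ S, a * E = E * a) →
      (∀ u v, formM (RingEquiv.refl F) (G : Matrix ι ι F) (E *ᵥ u) v =
        formM (RingEquiv.refl F) (G : Matrix ι ι F) u (E *ᵥ v)) →
      Module.finrank F (LinearMap.range (Matrix.toLin' E)) ≤ d →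
        2 * Module.finrank F (Submodule.span F ((fun a => a * E) '' S)) ≤
          Module.finrank F (LinearMap.range (Matrix.toLin' E)) := by
  classical
  set f := formM (RingEquiv.refl F) (G : Matrix ι ι F) with hf
  intro d
  induction d with
  | zero =>
    intro E _ _ _ hE
    have h0 : E = 0 := Matrix.toLin'.injective (by
      rw [map_zero, ← LinearMap.range_eq_bot, ← Submodule.finrank_eq_zero]; omega)
    have hspan : Submodule.span F ((fun a => a * E) '' S) = ⊥ := by
      rw [Submodule.span_eq_bot]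
      rintro _ ⟨a, -, rfl⟩
      simp [h0]
    rw [hspan, finrank_bot, mul_zero]
    exact Nat.zero_le _
  | succ d ih =>
    intro E hEE hEc hEadj hEd
    by_cases hscal : ∀ a ∈ S, a * E = E ∨ a * E = -E
    · by_cases hE0 : E = 0
      · have hspan : Submodule.span F ((fun a => a * E) '' S) = ⊥ := by
          rw [Submodule.span_eq_bot]
          rintro _ ⟨a, -, rfl⟩
          simp [hE0]
        rw [hspan, finrank_bot, mul_zero]
        exact Nat.zero_le _
      have hle : Submodule.span F ((fun a => a * E) '' S) ≤ Submodule.span F {E} := by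
        refine Submodule.span_le.mpr ?_
        rintro _ ⟨a, ha, rfl⟩
        rcases hscal a ha with h | h <;> simp only [h]
        · exact Submodule.mem_span_singleton_self E
        · exact Submodule.neg_mem _ (Submodule.mem_span_singleton_self E)
      have h1 := (Submodule.finrank_mono hle).trans (finrank_span_singleton hE0).le
      have h2' : 2 ≤ Module.finrank F (LinearMap.range (Matrix.toLin' E)) := by
        by_contra hlt
        push Not at hlt
        obtain ⟨u, hu⟩ : ∃ u, E *ᵥ u ≠ 0 := by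
          by_contra h
          push Not at h
          exact hE0 (Matrix.ext_iff_mulVec.mpr fun v => by rw [h v, Matrix.zero_mulVec])
        obtain ⟨-, ⟨y, hy⟩⟩ := nondegenerate_formM (RingEquiv.refl F) G (E *ᵥ u) hu
        apply hy
        set L := LinearMap.range (Matrix.toLin' E) with hL
        have hspanL : L = Submodule.span F {E *ᵥ u} := (Submodule.eq_of_le_of_finrank_le
          ((Submodule.span_singleton_le_iff_mem _ L).mpr (LinearMap.mem_range.mpr ⟨u, Matrix.toLin'_apply _ _⟩))
          (by rw [finrank_span_singleton hu]; omega)).symm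
        have hmem : E *ᵥ y ∈ L := ⟨y, Matrix.toLin'_apply _ _⟩
        rw [hspanL] at hmem
        obtain ⟨c, hc⟩ := Submodule.mem_span_singleton.mp hmem
        have h3 := hEadj (E *ᵥ u) y
        rw [Matrix.mulVec_mulVec, hEE, ← hc, hf, formM_smul_right, ← hf, halt, mul_zero] at h3
        exact h3
      omega
    push Not at hscal
    obtain ⟨a, ha, ha1, ha2⟩ := hscal
    obtain ⟨P, hP⟩ : ∃ P, P = (2 : F)⁻¹ • (E + a * E) := ⟨_, rfl⟩
    obtain ⟨N, hN⟩ : ∃ N, N = (2 : F)⁻¹ • (E - a * E) := ⟨_, rfl⟩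
    have hsum : P + N = E := by
      rw [hP, hN, ← smul_add, show E + a * E + (E - a * E) = (2 : F) • E by rw [two_smul]; abel, smul_smul,
        inv_mul_cancel₀ h2, one_smul]
    have haE : (a * E) * E = a * E := by rw [mul_assoc, hEE]
    have hEa : E * (a * E) = a * E := by rw [← mul_assoc, ← hEc a ha, haE]
    have haEaE : (a * E) * (a * E) = E := by rw [mul_assoc, hEa, ← mul_assoc, hsq a ha, one_mul]
    have h4 : (2 : F)⁻¹ * (2 : F)⁻¹ * 2 = (2 : F)⁻¹ := by rw [mul_assoc, inv_mul_cancel₀ h2, mul_one]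
    have hPP : P * P = P := by
      rw [hP, Matrix.smul_mul, Matrix.mul_smul, add_mul, mul_add, mul_add, hEE, haE, hEa, haEaE, smul_smul,
        show E + a * E + (a * E + E) = (2 : F) • (E + a * E) by rw [two_smul]; abel, smul_smul, h4]
    have hNN : N * N = N := by
      rw [hN, Matrix.smul_mul, Matrix.mul_smul, sub_mul, mul_sub, mul_sub, hEE, haE, hEa, haEaE, smul_smul,
        show E - a * E - (a * E - E) = (2 : F) • (E - a * E) by rw [two_smul]; abel, smul_smul, h4]
    have hPN : P * N = 0 := by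
      rw [hP, hN, Matrix.smul_mul, Matrix.mul_smul, add_mul, mul_sub, mul_sub, hEE, haE, hEa, haEaE,
        show E - a * E + (a * E - E) = 0 by abel, smul_zero, smul_zero]
    have hNP : N * P = 0 := by
      rw [hP, hN, Matrix.smul_mul, Matrix.mul_smul, sub_mul, mul_add, mul_add, hEE, haE, hEa, haEaE,
        show E + a * E - (a * E + E) = 0 by abel, smul_zero, smul_zero]
    have hcb : ∀ b ∈ S, b * (a * E) = a * E * b := fun b hb => by
      rw [← mul_assoc, hcomm b hb a ha, mul_assoc, hEc b hb, mul_assoc]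
    have hPc : ∀ b ∈ S, b * P = P * b := fun b hb => by
      rw [hP, Matrix.mul_smul, Matrix.smul_mul, mul_add, add_mul, hEc b hb, hcb b hb]
    have hNc : ∀ b ∈ S, b * N = N * b := fun b hb => by
      rw [hN, Matrix.mul_smul, Matrix.smul_mul, mul_sub, sub_mul, hEc b hb, hcb b hb]
    have hadjaE : ∀ u v, f ((a * E) *ᵥ u) v = f u ((a * E) *ᵥ v) := fun u v => by
      rw [← Matrix.mulVec_mulVec, hadj a ha, hEadj, Matrix.mulVec_mulVec, ← hEc a ha]
    have hsub_l : ∀ x y z, f (x - y) z = f x z - f y z := fun x y z => by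
      rw [eq_sub_iff_add_eq, hf, ← formM_add_left, sub_add_cancel]
    have hsub_r : ∀ z x y, f z (x - y) = f z x - f z y := fun z x y => by
      rw [eq_sub_iff_add_eq, hf, ← formM_add_right, sub_add_cancel]
    have hPadj : ∀ u v, f (P *ᵥ u) v = f u (P *ᵥ v) := fun u v => by
      rw [hP, Matrix.smul_mulVec, Matrix.smul_mulVec, Matrix.add_mulVec, Matrix.add_mulVec, hf, formM_smul_left,
        formM_smul_right, formM_add_left, formM_add_right, ← hf, hEadj, hadjaE, RingEquiv.refl_apply]
    have hNadj : ∀ u v, f (N *ᵥ u) v = f u (N *ᵥ v) := fun u v => by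
      rw [hN, Matrix.smul_mulVec, Matrix.smul_mulVec, Matrix.sub_mulVec, Matrix.sub_mulVec, hf, formM_smul_left,
        formM_smul_right, ← hf, hsub_l, hsub_r, hEadj, hadjaE, RingEquiv.refl_apply]
    -- ranges split
    set RE := LinearMap.range (Matrix.toLin' E)
    set RP := LinearMap.range (Matrix.toLin' P) with hRP
    set RN := LinearMap.range (Matrix.toLin' N) with hRN
    have hinf : RP ⊓ RN = ⊥ := by
      rw [eq_bot_iff]
      rintro v ⟨⟨x, hx⟩, ⟨y, hy⟩⟩
      rw [Matrix.toLin'_apply] at hx hy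
      have hv : P *ᵥ v = v := by rw [← hx, Matrix.mulVec_mulVec, hPP]
      rw [Submodule.mem_bot, ← hv, ← hy, Matrix.mulVec_mulVec, hPN, Matrix.zero_mulVec]
    have hPE : E * P = P := by rw [← hsum, add_mul, hPP, hNP, add_zero]
    have hNE : E * N = N := by rw [← hsum, add_mul, hNN, hPN, zero_add]
    have hsup : RP ⊔ RN = RE := by
      refine le_antisymm (sup_le ?_ ?_) ?_
      · rintro _ ⟨x, rfl⟩
        exact ⟨P *ᵥ x, by rw [Matrix.toLin'_apply, Matrix.toLin'_apply, Matrix.mulVec_mulVec, hPE]⟩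
      · rintro _ ⟨x, rfl⟩
        exact ⟨N *ᵥ x, by rw [Matrix.toLin'_apply, Matrix.toLin'_apply, Matrix.mulVec_mulVec, hNE]⟩
      · rintro _ ⟨x, rfl⟩
        rw [← hsum, map_add, LinearMap.add_apply]
        exact Submodule.add_mem_sup ⟨x, rfl⟩ ⟨x, rfl⟩
    have hfin : Module.finrank F RP + Module.finrank F RN = Module.finrank F RE := by
      have h := Submodule.finrank_sup_add_finrank_inf_eq RP RN
      rw [hinf, hsup, finrank_bot, add_zero] at h
      exact h.symm
    have hne : ∀ M : Matrix ι ι F, M ≠ 0 → 0 < Module.finrank F (LinearMap.range (Matrix.toLin' M)) := by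
      intro M hM
      rw [Nat.pos_iff_ne_zero, Ne, Submodule.finrank_eq_zero, LinearMap.range_eq_bot]
      exact fun h => hM (Matrix.toLin'.injective (by rw [h, map_zero]))
    have hP0 : 0 < Module.finrank F RP := hne P fun h => ha2 (by
      rw [hP] at h
      exact eq_neg_of_add_eq_zero_right ((smul_eq_zero.mp h).resolve_left (inv_ne_zero h2)))
    have hN0 : 0 < Module.finrank F RN := hne N fun h => ha1 (by
      rw [hN] at h
      exact (sub_eq_zero.mp ((smul_eq_zero.mp h).resolve_left (inv_ne_zero h2))).symm)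
    have hspan : Submodule.span F ((fun b => b * E) '' S) ≤
        Submodule.span F ((fun b => b * P) '' S) ⊔ Submodule.span F ((fun b => b * N) '' S) := by
      refine Submodule.span_le.mpr ?_
      rintro _ ⟨b, hb, rfl⟩
      show b * E ∈ _
      rw [← hsum, mul_add]
      exact Submodule.add_mem_sup (Submodule.subset_span ⟨b, hb, rfl⟩) (Submodule.subset_span ⟨b, hb, rfl⟩)
    have h1 := (Submodule.finrank_mono hspan).trans (Submodule.finrank_add_le_finrank_add_finrank _ _)
    have hPi := ih P hPP hPc hPadj (by rw [← hRP]; omega)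
    have hNi := ih N hNN hNc hNadj (by rw [← hRN]; omega)
    rw [← hRP] at hPi
    rw [← hRN] at hNi
    omega

/-- The group is of minus type when it fixes a symplectic form. -/
theorem isOfMinusType (hT : ∀ i, IsPauliTable (T i)) (h2 : (2 : F) ≠ 0) {G : GL ι F}
    (halt : ∀ v, formM (RingEquiv.refl F) (G : Matrix ι ι F) v v = 0)
    (hinv : ∀ x ∈ pauliGroup e B T hT, (x : Matrix ι ι F)ᵀ * (G : Matrix ι ι F) * (x : Matrix ι ι F) =
      (G : Matrix ι ι F)) :
    IsOfMinusType t (pauliGroup e B T hT) := by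
  classical
  intro A hA hA2
  haveI := hA
  haveI : Finite (pauliGroup e B T hT) := Nat.finite_of_card_ne_zero (by rw [natCard_pauliGroup hT h2]; positivity)
  haveI : Fintype A := Fintype.ofFinite _
  let mat : A → Matrix ι ι F := fun x => (((x : pauliGroup e B T hT) : GL ι F) : Matrix ι ι F)
  have hsq : ∀ a ∈ Set.range mat, a * a = 1 := by
    rintro _ ⟨x, rfl⟩
    have := congrArg (fun y : pauliGroup e B T hT => ((y : GL ι F) : Matrix ι ι F)) (hA2 x x.2)
    simpa [mat] using this
  have hcomm : ∀ a ∈ Set.range mat, ∀ b ∈ Set.range mat, a * b = b * a := by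
    rintro _ ⟨x, rfl⟩ _ ⟨y, rfl⟩
    exact congrArg (fun g : A => (((g : pauliGroup e B T hT) : GL ι F) : Matrix ι ι F)) (mul_comm' x y)
  have hadj : ∀ a ∈ Set.range mat, ∀ u v, formM (RingEquiv.refl F) (G : Matrix ι ι F) (a *ᵥ u) v =
      formM (RingEquiv.refl F) (G : Matrix ι ι F) u (a *ᵥ v) := by
    rintro _ ⟨x, rfl⟩ u v
    have h := formM_mulVec (RingEquiv.refl F) (G : Matrix ι ι F) (mat x) (mat x) u (mat x *ᵥ v)
    rw [twist_refl, hinv _ (x : pauliGroup e B T hT).2, Matrix.mulVec_mulVec, hsq _ ⟨x, rfl⟩,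
      Matrix.one_mulVec] at h
    exact h
  have hbound := two_mul_finrank_le_rank halt h2 hsq hcomm hadj (Fintype.card ι) 1 (one_mul 1)
    (fun a _ => by rw [mul_one, one_mul]) (fun u v => by rw [Matrix.one_mulVec, Matrix.one_mulVec])
    ((Submodule.finrank_le _).trans (Module.finrank_fintype_fun_eq_card F).le)
  rw [Matrix.toLin'_one, LinearMap.range_id, finrank_top, Module.finrank_fintype_fun_eq_card, Fintype.card_congr e,
    Fintype.card_fun, Fintype.card_fin, Fintype.card_fin,
    show (fun a : Matrix ι ι F => a * 1) = id from funext mul_one, Set.image_id] at hbound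
  choose ε idx hε hidx using fun x : A => (x : pauliGroup e B T hT).2
  let S : Finset (Fin t → Fin 4) := Finset.univ.image idx
  have hS : S.card ≤ Module.finrank F (Submodule.span F (Set.range mat)) := by
    have hli : LinearIndependent F fun s : S => pauli e B T (s : Fin t → Fin 4) :=
      (pauli_indep e B T hT).comp _ Subtype.val_injective
    have hcard := finrank_span_eq_card hli
    rw [Fintype.card_coe] at hcard
    rw [← hcard]
    refine Submodule.finrank_mono (Submodule.span_le.mpr ?_)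
    rintro _ ⟨⟨s, hs⟩, rfl⟩
    obtain ⟨x, -, rfl⟩ := Finset.mem_image.mp hs
    have hmx : mat x = ε x • pauli e B T (idx x) := hidx x
    have hεε : ε x * ε x = 1 := by rcases hε x with h | h <;> simp [h]
    show pauli e B T (idx x) ∈ _
    rw [← one_smul F (pauli e B T (idx x)), ← hεε, ← smul_smul, ← hmx]
    exact Submodule.smul_mem _ _ (Submodule.subset_span ⟨x, rfl⟩)
  have hfib : Fintype.card A ≤ 2 * S.card := by
    rw [← Finset.card_univ]
    refine Finset.card_le_mul_card_image Finset.univ 2 fun s _ => ?_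
    by_contra hlt
    push Not at hlt
    obtain ⟨x, hx, y, hy, z, hz, hxy, hxz, hyz⟩ := Finset.two_lt_card.mp hlt
    simp only [Finset.mem_filter, Finset.mem_univ, true_and] at hx hy hz
    have hinj : ∀ p q : A, idx p = idx q → ε p = ε q → p = q := fun p q h1 h2' =>
      Subtype.ext (Subtype.ext (Units.ext (by rw [hidx, hidx, h1, h2'])))
    rcases hε x with h | h <;> rcases hε y with h' | h' <;> rcases hε z with h'' | h'' <;>
      first
        | exact hxy (hinj _ _ (hx.trans hy.symm) (h.trans h'.symm))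
        | exact hxz (hinj _ _ (hx.trans hz.symm) (h.trans h''.symm))
        | exact hyz (hinj _ _ (hy.trans hz.symm) (h'.trans h''.symm))
  rw [Nat.card_eq_fintype_card, pow_succ]
  have := Nat.two_pow_pos t
  omega

lemma framed_mulVec_comp {κ : Type} [Fintype κ] [DecidableEq κ] (e : ι ≃ κ) (B : GL ι F) (M : Matrix κ κ F)
    (x : κ → F) : framed e B M *ᵥ ((B : Matrix ι ι F) *ᵥ (x ∘ e)) = (B : Matrix ι ι F) *ᵥ ((M *ᵥ x) ∘ e) := by
  rw [framed_apply, Matrix.mulVec_mulVec, mul_assoc, Units.inv_mul, mul_one, ← Matrix.mulVec_mulVec]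
  congr 1
  funext i
  simp only [Matrix.mulVec, dotProduct, Matrix.submatrix_apply, Function.comp_apply]
  exact Equiv.sum_comp e fun y => M (e i) y * x y

/-- Similitudes in each factor give similitudes of the tensor form. -/
theorem le_similarityGroup_pauli (hT : ∀ i, IsPauliTable (T i)) [Nonempty ι] {G : GL ι F}
    {Gs : Fin t → Matrix (Fin 2) (Fin 2) F} {c : F}
    (hG : gramIn (RingEquiv.refl F) G e B = c • pureTensor Gs)
    (hsim : ∀ i a, ∃ η : F, (η = 1 ∨ η = -1) ∧ (T i a)ᵀ * Gs i * T i a = η • Gs i) :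
    pauliGroup e B T hT ≤ similarityGroup (formM (RingEquiv.refl F) (G : Matrix ι ι F)) := by
  intro g hg
  obtain ⟨ε, s, hε, hs⟩ := hg
  choose η hη hηe using fun i => hsim i (s i)
  have hεε : ε * ε = 1 := by rcases hε with rfl | rfl <;> simp
  have hηne : ∏ i, η i ≠ 0 := by rcases prod_sign hη with h | h <;> rw [h] <;> simp
  have hval : (g : Matrix ι ι F) = framed e B (ε • pureTensor fun i => T i (s i)) := by rw [hs, map_smul]; rfl
  obtain ⟨M, hM⟩ : ∃ M, M = (ε • pureTensor fun i => T i (s i)) := ⟨_, rfl⟩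
  rw [← hM] at hval
  have hk : Mᵀ * gramIn (RingEquiv.refl F) G e B * M = (∏ i, η i) • gramIn (RingEquiv.refl F) G e B := by
    rw [hG, hM, Matrix.transpose_smul, pureTensor_transpose, Matrix.smul_mul, Matrix.mul_smul, Matrix.smul_mul,
      Matrix.mul_smul, Matrix.smul_mul, pureTensor_mul, pureTensor_mul,
      show (((fun i => (T i (s i))ᵀ) * Gs) * fun i => T i (s i)) = fun i => η i • Gs i from funext hηe,
      pureTensor_smul_family, smul_smul, smul_smul, smul_smul, smul_smul]
    congr 1
    linear_combination (c * ∏ i, η i) * hεε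
  refine ⟨Units.mk0 _ hηne, fun u v => ?_⟩
  obtain ⟨x, hx⟩ : ∃ x, u = (B : Matrix ι ι F) *ᵥ (x ∘ e) :=
    ⟨(((B⁻¹ : GL ι F) : Matrix ι ι F) *ᵥ u) ∘ e.symm, by ext i; simp [Function.comp_assoc, Matrix.mulVec_mulVec]⟩
  obtain ⟨y, hy⟩ : ∃ y, v = (B : Matrix ι ι F) *ᵥ (y ∘ e) :=
    ⟨(((B⁻¹ : GL ι F) : Matrix ι ι F) *ᵥ v) ∘ e.symm, by ext i; simp [Function.comp_assoc, Matrix.mulVec_mulVec]⟩
  rw [hx, hy, hval, framed_mulVec_comp, framed_mulVec_comp, formM_frame, formM_frame, formM_mulVec, twist_refl, hk, formM_smul]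
  rfl

/-- Elements permuting the tables factorwise normalise the group. -/
theorem mem_normalizer_pauli (hT : ∀ i, IsPauliTable (T i)) (h2 : (2 : F) ≠ 0) {g : GL ι F}
    {π : Equiv.Perm (Fin t)} {gs : Fin t → Matrix (Fin 2) (Fin 2) F}
    (hg : (g : Matrix ι ι F) = framed e B (monoM π gs))
    (hgs : ∀ i a, ∃ (η : F) (b : Fin 4), (η = 1 ∨ η = -1) ∧ gs i * T (π i) a = η • (T i b * gs i)) :
    g ∈ subgroupNormalizer (pauliGroup e B T hT) := by
  haveI : Finite (pauliGroup e B T hT) := Nat.finite_of_card_ne_zero (by rw [natCard_pauliGroup hT h2]; positivity)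
  have hmono : ∀ (η : Fin t → F) (ms : Fin t → Matrix (Fin 2) (Fin 2) F),
      monoM π (fun i => η i • ms i) = (∏ i, η i) • monoM π ms := fun η ms => by
    ext x y
    simp [monoM, Finset.prod_mul_distrib]
  have hfw : ∀ r ∈ pauliGroup e B T hT, g * r * g⁻¹ ∈ pauliGroup e B T hT := by
    rintro r ⟨ε, s, hε, hs⟩
    choose η b hη hb using fun i => hgs i (s (π i))
    refine ⟨ε * ∏ i, η i, b, by rcases hε with rfl | rfl <;> rcases prod_sign hη with h | h <;> rw [h] <;> simp, ?_⟩
    have hcomb : monoM π gs * pureTensor (fun i => T i (s i)) =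
        (∏ i, η i) • (pureTensor (fun i => T i (b i)) * monoM π gs) := by
      rw [← monoM_refl, ← monoM_refl, monoM_mul, monoM_mul, Equiv.trans_refl, Equiv.refl_trans, ← hmono]
      exact congrArg _ (funext hb)
    have h1 : ((g * r : GL ι F) : Matrix ι ι F) = (ε * ∏ i, η i) • (pauli e B T b * (g : Matrix ι ι F)) := by
      rw [Units.val_mul, hs, hg, pauli, pauli, Matrix.mul_smul, ← map_mul, hcomb, map_smul, map_mul, smul_smul]
    rw [Units.val_mul, h1, Matrix.smul_mul, mul_assoc, Units.mul_inv, mul_one]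
  have hinj : Function.Injective fun r : pauliGroup e B T hT => (⟨g * r * g⁻¹, hfw r r.2⟩ : pauliGroup e B T hT) :=
    fun a b h => Subtype.ext (by
      have := congrArg Subtype.val h
      exact mul_left_cancel (mul_right_cancel (this : g * (a : GL ι F) * g⁻¹ = g * (b : GL ι F) * g⁻¹)))
  refine Subgroup.mem_normalizer_iff.mpr fun r => ⟨fun hr => hfw r hr, fun hr => ?_⟩
  obtain ⟨r', hr'⟩ := Finite.injective_iff_surjective.mp hinj ⟨g * r * g⁻¹, hr⟩
  have h : g * (r' : GL ι F) * g⁻¹ = g * r * g⁻¹ := congrArg Subtype.val hr'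
  rw [← mul_left_cancel (mul_right_cancel h)]
  exact r'.2

end Cfsg.Agent.Lib.SympQuat
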